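import Cfsg.Agent.Lib.SelfCentSix9.Fuse
import Cfsg.Agent.Lib.Balance.Functor
import Cfsg.Agent.Lib.Coprime.Generation
import Cfsg.Agent.Lib.Involutions.StronglyEmbedded
import Cfsg.Agent.S1221

/-!
# Trivial core of `C(z)` from good involutions

If every involution of a Sylow 2-subgroup `S ≤ C(z)` commutes with a good involution of a normal
2-subgroup `Q` of the solvable group `C(z)`, then all cores `O(C(v))`, `v ∈ S`, are equal, so that their
normaliser would be strongly embedded; hence they are trivial.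
-/

set_option autoImplicit false

namespace Cfsg.Agent.Lib.SelfCentSix9

open Subgroup

universe u

variable {G : Type u} [Group G] [Finite G] {z x : G}

/-- `O(C(a))`. -/
abbrev cr (a : G) : Subgroup G := Cfsg.centralizerPPrimeCore 2 a

omit [Finite G] in
/-- A subgroup of odd order and a 2-group normalising each other commute. -/
theorem le_centralizer_of_coprime {K Q : Subgroup G} (hK : ¬ 2 ∣ Nat.card K) (hQ : IsPGroup 2 Q)
    (hKQ : K ≤ normalizer (Q : Set G)) (hQK : Q ≤ normalizer (K : Set G)) :
    ∀ k ∈ K, ∀ q ∈ Q, Commute k q := by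
  have : Fact (Nat.Prime 2) := ⟨Nat.prime_two⟩
  intro k hk q hq
  set c := k * q * k⁻¹ * q⁻¹ with hc
  have hcQ : c ∈ Q := mul_mem ((mem_normalizer_iff.1 (hKQ hk) q).1 hq) (inv_mem hq)
  have hcK : c ∈ K := by
    rw [hc, show k * q * k⁻¹ * q⁻¹ = k * (q * k⁻¹ * q⁻¹) by group]
    exact mul_mem hk ((mem_normalizer_iff.1 (hQK hq) _).1 (inv_mem hk))
  obtain ⟨n, hn⟩ := hQ ⟨c, hcQ⟩
  have h1 : orderOf c ∣ 2 ^ n := orderOf_dvd_of_pow_eq_one (congrArg Subtype.val hn)
  have h2 : orderOf c ∣ Nat.card K := orderOf_dvd_natCard K hcK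
  have hcop : (2 ^ n).Coprime (Nat.card K) :=
    Nat.Coprime.pow_left _ (Nat.prime_two.coprime_iff_not_dvd.2 hK)
  have := orderOf_eq_one_iff.1 (Nat.eq_one_of_dvd_coprimes hcop h1 h2)
  exact cm_eq_one_iff.1 this

omit [Finite G] in
theorem orderOf_conj' (g t : G) : orderOf (g * t * g⁻¹) = orderOf t := by
  rw [← MulAut.conj_apply, MulEquiv.orderOf_eq]

namespace Ctx

variable (h : Ctx G z x)
include h

omit [Finite G] in
/-- All centralisers of involutions are solvable if one is. -/
theorem solvable_cen (hsol : Group.IsSolvable (Cen z)) {v : G} (hv : orderOf v = 2) :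
    Group.IsSolvable (Cen v) := by
  obtain ⟨g, hg⟩ := h.exists_conj hv
  have hmem : ∀ y ∈ Cen v, g * y * g⁻¹ ∈ Cen z := by
    intro y hy
    refine mem_cen.2 ?_
    have := (mem_cen.1 hy).map (MulAut.conj g)
    simp only [MulAut.conj_apply] at this
    rwa [hg] at this
  let f : Cen v →* Cen z :=
    ((MulAut.conj g).toMonoidHom.comp (Cen v).subtype).codRestrict (Cen z) (fun y => hmem y y.2)
  exact Group.isSolvable_of_isSolvable_injective (f := f) fun a b e =>
    Subtype.ext ((MulAut.conj g).injective (congrArg Subtype.val e))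

omit [Finite G] in
/-- The cores of the centralisers of involutions have the same order. -/
theorem card_cr {v : G} (hv : orderOf v = 2) : Nat.card (cr v) = Nat.card (cr z) := by
  obtain ⟨g, hg⟩ := h.exists_conj hv
  rw [← hg]
  unfold cr
  rw [Balance.centralizerPPrimeCore_conj, card_map_of_injective (MulAut.conj g).injective]

/-- **Trivial core.** -/
theorem core_eq_bot (hsol : Group.IsSolvable (Cen z)) (S : Sylow 2 G)
    (hSz : (S : Subgroup G) ≤ Cen z) {Q : Subgroup G} (hQS : Q ≤ (S : Subgroup G))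
    (hQN : Cen z ≤ normalizer (Q : Set G))
    (hgood : ∀ v ∈ (S : Subgroup G), orderOf v = 2 → ∃ e, Good z Q e ∧ Commute v e) :
    cr z = ⊥ := by
  classical
  have : Fact (Nat.Prime 2) := ⟨Nat.prime_two⟩
  have hodd : ∀ a : G, ¬ 2 ∣ Nat.card (cr a) := fun a => Balance.not_dvd_card_centralizerPPrimeCore a
  have hle : ∀ a : G, cr a ≤ Cen a := fun a => Balance.centralizerPPrimeCore_le a
  have hbal : ∀ a b : G, orderOf a = 2 → orderOf b = 2 → Commute a b → cr a ⊓ Cen b ≤ cr b := by
    intro a b ha hb hab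
    have := h.solvable_cen hsol hb
    exact Balance.balance_of_pLayer_eq_bot ha hab.eq Balance.pLayer_eq_bot_of_isSolvable
  have hzS : z ∈ (S : Subgroup G) := (h.z_mem_zOne S hSz).1
  set K := cr z with hKdef
  -- `K` centralises `Q`
  have hKQ : ∀ k ∈ K, ∀ q ∈ Q, Commute k q :=
    le_centralizer_of_coprime (hodd z) (S.isPGroup'.to_le hQS) ((hle z).trans hQN)
      ((hQS.trans hSz).trans (Balance.centralizer_le_normalizer_centralizerPPrimeCore z))
  -- the cores of the good involutions and of their products with `z`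
  have hgoodK : ∀ {e : G}, Good z Q e → cr e = K := by
    intro e ge
    have hcomm : Commute z e := (mem_cen.1 (hSz (hQS ge.mem))).symm
    have h1 : K ≤ cr e := fun k hk => hbal z e h.hz ge.ord hcomm ⟨hk, mem_cen.2 (hKQ k hk e ge.mem)⟩
    exact (Subgroup.eq_of_le_of_card_ge h1 (h.card_cr ge.ord).le).symm
  have hzQ : ∀ {e : G}, Good z Q e → cr (e * z) = K := by
    intro e ge
    have hcomm : Commute z e := (mem_cen.1 (hSz (hQS ge.mem))).symm
    have ho : orderOf (e * z) = 2 := by
      refine orderOf_eq_prime ?_ fun e' => ge.ne ?_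
      · rw [hcomm.symm.mul_pow, pow_two, pow_two, ge.sq, h.z_sq, one_mul]
      · rw [eq_inv_of_mul_eq_one_left e', h.z_inv]
    have h1 : K ≤ cr (e * z) := fun k hk => hbal z (e * z) h.hz ho (hcomm.mul_right (Commute.refl z))
      ⟨hk, mem_cen.2 ((hKQ k hk e ge.mem).mul_right (mem_cen.1 (hle z hk)))⟩
    exact (Subgroup.eq_of_le_of_card_ge h1 (h.card_cr ho).le).symm
  -- all cores of involutions of `S` are `K`
  have hall : ∀ v ∈ (S : Subgroup G), orderOf v = 2 → cr v = K := by
    intro v hv hvo
    obtain ⟨e, ge, hve⟩ := hgood v hv hvo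
    have hcomm : Commute z e := (mem_cen.1 (hSz (hQS ge.mem))).symm
    let A : Subgroup G := closure {z, e}
    have hAc : IsMulCommutative A := by
      refine isMulCommutative_closure ?_
      rintro p (rfl | rfl) q (rfl | rfl)
      exacts [rfl, hcomm.eq, hcomm.eq.symm, rfl]
    have hAmem : ∀ a ∈ A, a = 1 ∨ a = z ∨ a = e ∨ a = e * z := by
      intro a ha
      induction ha using closure_induction with
      | mem a ha => rcases ha with rfl | rfl <;> simp
      | one => exact Or.inl rfl
      | mul p q _ _ hp hq =>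
        have e1 : z * e = e * z := hcomm.eq
        have e2 : z * (e * z) = e := by rw [← mul_assoc, e1, mul_assoc, h.z_sq, mul_one]
        have e3 : e * (e * z) = z := by rw [← mul_assoc, ge.sq, one_mul]
        have e4 : e * z * z = e := by rw [mul_assoc, h.z_sq, mul_one]
        have e5 : e * z * e = z := by rw [mul_assoc, e1, e3]
        have e6 : e * z * (e * z) = 1 := by rw [← mul_assoc, e5, h.z_sq]
        rcases hp with rfl | rfl | rfl | rfl <;> rcases hq with rfl | rfl | rfl | rfl <;>
          simp [h.z_sq, ge.sq, e1, e2, e3, e4, e5, e6]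
      | inv p _ hp =>
        rcases hp with rfl | rfl | rfl | rfl <;> simp [h.z_inv, ge.inv_self, hcomm.eq]
    have hAv : A ≤ Cen v := (closure_le _).2 (by
      rintro p (rfl | rfl)
      · exact mem_cen.2 (mem_cen.1 (hSz hv)).symm
      · exact mem_cen.2 hve.symm)
    have hA2 : IsPGroup 2 A := S.isPGroup'.to_le ((closure_le _).2 (by
      rintro p (rfl | rfl)
      exacts [hzS, hQS ge.mem]))
    have hAnc : ¬ IsCyclic A := by
      intro hcyc
      have hz' : z ∈ A := subset_closure (by simp)
      have he' : e ∈ A := subset_closure (by simp)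
      obtain ⟨a, ha⟩ := hcyc.exists_generator
      have ha2 : (a : G) ^ 2 = 1 := by
        rcases hAmem a a.2 with e' | e' | e' | e' <;> rw [e', pow_two]
        · exact mul_one 1
        · exact h.z_sq
        · exact ge.sq
        · rw [show e * z * (e * z) = e * (z * e) * z by group, hcomm.eq,
            show e * (e * z) * z = e * e * (z * z) by group, ge.sq, h.z_sq, one_mul]
      have key : ∀ w ∈ A, w = 1 ∨ w = (a : G) := by
        intro w hw
        obtain ⟨k, hk⟩ := mem_zpowers_iff.1 (ha ⟨w, hw⟩)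
        have : w = (a : G) ^ k := by rw [← Subgroup.coe_zpow, hk]
        rw [this]
        rcases Int.even_or_odd k with ⟨j, hj⟩ | ⟨j, hj⟩
        · left; rw [hj, ← two_mul, zpow_mul, zpow_two, ← pow_two, ha2, one_zpow]
        · right; rw [hj, zpow_add_one, zpow_mul, zpow_two, ← pow_two, ha2, one_zpow, one_mul]
      rcases key z hz' with e1 | e1
      · exact h.z_ne e1
      rcases key e he' with e2 | e2
      · exact ge.ne_one e2
      exact ge.ne (e2.trans e1.symm)
    have hcop : (Nat.card A).Coprime (Nat.card (cr v)) := by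
      obtain ⟨n, hn⟩ := hA2.exists_card_eq
      rw [hn]
      exact Nat.Coprime.pow_left _ (Nat.prime_two.coprime_iff_not_dvd.2 (hodd v))
    have hgen := Coprime.iSup_centralizer_eq hAnc
      (hAv.trans (Balance.centralizer_le_normalizer_centralizerPPrimeCore v)) hcop
    refine Subgroup.eq_of_le_of_card_ge ?_ (h.card_cr hvo).ge
    refine hgen.ge.trans ?_
    refine iSup₂_le fun a ha => ?_
    rcases hAmem a ha.1 with e' | e' | e' | e'
    · exact absurd e' ha.2
    · subst e'; exact hbal v a hvo h.hz (mem_cen.1 (hSz hv))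
    · subst e'
      exact (hbal v a hvo ge.ord hve).trans (hgoodK ge).le
    · have ho : orderOf a = 2 := by
        rw [e']
        refine orderOf_eq_prime ?_ fun e'' => ge.ne ?_
        · rw [hcomm.symm.mul_pow, pow_two, pow_two, ge.sq, h.z_sq, one_mul]
        · rw [eq_inv_of_mul_eq_one_left e'', h.z_inv]
      have hc : Commute v a := e' ▸ hve.mul_right (mem_cen.1 (hSz hv))
      exact (hbal v a hvo ho hc).trans (e' ▸ (hzQ ge).le)
  -- the normaliser of `K` would be strongly embedded
  by_contra hK
  set M := normalizer (K : Set G) with hM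
  have hMtop : M ≠ ⊤ := by
    intro e
    have hn : K.Normal := normalizer_eq_top_iff.1 e
    refine hK (h.eq_bot_of_odd hn ?_)
    exact Nat.odd_iff.2 (Nat.two_dvd_ne_zero.1 (hodd z))
  have hconj : ∀ g v : G, cr (g * v * g⁻¹) = (cr v).map (MulAut.conj g).toMonoidHom :=
    fun g v => Balance.centralizerPPrimeCore_conj g v
  have hSM : (S : Subgroup G) ≤ M :=
    hSz.trans (Balance.centralizer_le_normalizer_centralizerPPrimeCore z)
  have heven : Even (Nat.card M) :=
    even_iff_two_dvd.2 (h.hz ▸ orderOf_dvd_natCard M (hSM hzS))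
  have hto : ∀ t ∈ M, orderOf t = 2 → ∃ m ∈ M, m * t * m⁻¹ ∈ (S : Subgroup G) := by
    intro t ht hto
    have hp : IsPGroup 2 (zpowers (⟨t, ht⟩ : M)) :=
      IsPGroup.of_card (n := 1) (by rw [Nat.card_zpowers, pow_one, ← Subgroup.orderOf_coe]; exact hto)
    obtain ⟨R, hR⟩ := hp.exists_le_sylow
    let S' : Sylow 2 M := S.subtype hSM
    obtain ⟨m, hm⟩ := MulAction.exists_smul_eq M R S'
    refine ⟨m, m.2, ?_⟩
    have h1 := Subgroup.smul_mem_pointwise_smul (a := MulAut.conj m) _ _ (hR (mem_zpowers _))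
    rw [← Sylow.coe_subgroup_smul, hm] at h1
    simpa [S', mem_subgroupOf] using h1
  have hSE : Cfsg.IsStronglyEmbedded M := by
    refine Involutions.StronglyEmbedded.of_forall_conj hMtop heven fun t ht hto' g hg => ?_
    obtain ⟨m, hm, hmS⟩ := hto t ht hto'
    obtain ⟨n, hn, hnS⟩ := hto _ hg ((orderOf_conj' g t).trans hto')
    set g' := n * g * m⁻¹ with hg'
    have e : g' * (m * t * m⁻¹) * g'⁻¹ = n * (g * t * g⁻¹) * n⁻¹ := by rw [hg']; group
    have h1 := hall _ hmS ((orderOf_conj' m t).trans hto')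
    have h2 := hall _ hnS ((orderOf_conj' n _).trans ((orderOf_conj' g t).trans hto'))
    rw [← e, hconj, h1] at h2
    have hg'M : g' ∈ M := mem_normalizer_iff.2 fun y => by
      conv_rhs => rw [← h2]
      exact (mem_map_iff_mem (MulAut.conj g').injective).symm
    have : g = n⁻¹ * g' * m := by rw [hg']; group
    rw [this]
    exact mul_mem (mul_mem (inv_mem hn) hg'M) hm
  have h1221 := Cfsg.Agent.S1221.result M hSE
  apply hK
  rw [eq_bot_iff]
  intro k hk
  have hkM : k ∈ M := le_normalizer hk
  have hn : (K.subgroupOf M).Normal := normal_subgroupOf_of_le_normalizer le_rfl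
  have hsub : K.subgroupOf M ≤ Cfsg.oddCore M := by
    refine Cores.le_pPrimeCore_of_not_dvd ?_
    rw [Nat.card_congr (subgroupOfEquivOfLe (show K ≤ M from le_normalizer)).toEquiv]
    exact hodd z
  have := h1221 (mem_map_of_mem M.subtype (hsub (mem_subgroupOf.2 hk : (⟨k, hkM⟩ : M) ∈ K.subgroupOf M)))
  have hcore : Cfsg.oddCore G = ⊥ := h.eq_bot_of_odd inferInstance (Nat.odd_iff.2
    (Nat.two_dvd_ne_zero.1 ((Cores.not_dvd_card_pPrimeCore 2))))
  rwa [hcore] at this

end Ctx

end Cfsg.Agent.Lib.SelfCentSix9
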