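import Cfsg.Agent.Lib.SelfCentSix9.Setup
import Cfsg.Agent.Lib.OddLocal.FrobeniusAction
import Cfsg.Agent.Lib.Coprime.Glauberman
import Cfsg.Agent.S0041

/-!
# An `r`-group normalised by `x` without fixed points on a 2-group of `C(z)` forces order eight

If `R ≠ 1` is an `r`-group, `r ≠ 2, 3`, normalised by `x` and acting without fixed points on a 2-group
`S` with `z ∈ S ≤ C(z)` normalised by `x`, then some `y ∈ R` of order `r` spans with `x` a Frobenius
group, so `|S| = |C_S(x)| ^ 3 = 8`.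
-/

set_option autoImplicit false

namespace Cfsg.Agent.Lib.SelfCentSix9

open Subgroup

universe u

variable {G : Type u} [Group G] [Finite G]

/-- An invariant Sylow subgroup of a subgroup of order prime to three. -/
theorem exists_inv_sylow {x : G} (hx : orderOf x = 3) {M : Subgroup G}
    (hxM : x ∈ normalizer (M : Set G)) (h3 : ¬ 3 ∣ Nat.card M) {r : ℕ} (hr : r.Prime)
    (hrM : r ∣ Nat.card M) :
    ∃ R : Subgroup G, R ≤ M ∧ IsPGroup r R ∧ R ≠ ⊥ ∧ x ∈ normalizer (R : Set G) := by
  have : Fact r.Prime := ⟨hr⟩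
  have hc : (Nat.card (zpowers x)).Coprime (Nat.card M) := by
    rw [Nat.card_zpowers, hx]
    exact Nat.prime_three.coprime_iff_not_dvd.2 h3
  obtain ⟨P, hP⟩ := Coprime.exists_invariant_sylow (zpowers_le.2 hxM) hc
    (Or.inl inferInstance) r
  refine ⟨(P : Subgroup M).map M.subtype, map_subtype_le _, P.isPGroup'.map _, ?_, hP (mem_zpowers x)⟩
  intro e
  rw [map_eq_bot_iff_of_injective _ M.subtype_injective] at e
  exact P.ne_bot_of_dvd_card hrM e

/-- The automorphism action of a subgroup normalising `S`. -/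
def actHom {B S : Subgroup G} (hB : B ≤ normalizer (S : Set G)) : B →* MulAut S :=
  S.normalizerMonoidHom.comp (Subgroup.inclusion hB)

omit [Finite G] in
theorem actHom_apply {B S : Subgroup G} (hB : B ≤ normalizer (S : Set G)) (b : B) (s : S) :
    ((actHom hB b s : S) : G) = (b : G) * s * (b : G)⁻¹ := rfl

variable {z x : G}

/-- The Frobenius fixed point argument. -/
theorem Ctx.card_eight (h : Ctx G z x) {S : Subgroup G} (hS : IsPGroup 2 S) (hSz : S ≤ Cen z)
    (hzS : z ∈ S) (hxS : x ∈ normalizer (S : Set G)) {R : Subgroup G} {r : ℕ} (hr : r.Prime)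
    (hr2 : r ≠ 2) (hr3 : r ≠ 3) (hR : IsPGroup r R) (hR1 : R ≠ ⊥)
    (hxR : x ∈ normalizer (R : Set G)) (hRS : R ≤ normalizer (S : Set G))
    (hfpf : ∀ y ∈ R, y ≠ 1 → ∀ s ∈ S, Commute y s → s = 1) : Nat.card S = 8 := by
  classical
  have : Fact r.Prime := ⟨hr⟩
  have : Fact (Nat.Prime 2) := ⟨Nat.prime_two⟩
  have : Fact (Nat.Prime 3) := ⟨Nat.prime_three⟩
  have hSnt : Nontrivial S := ⟨⟨⟨z, hzS⟩, 1, fun e => h.z_ne (congrArg Subtype.val e)⟩⟩
  have hRnt : Nontrivial R := (Subgroup.nontrivial_iff_ne_bot R).2 hR1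
  -- the elementary abelian subgroup `A = Ω₁(Z(R))`, normalised by `x`
  let A : Subgroup G :=
    { carrier := {y | y ∈ R ∧ (∀ a ∈ R, a * y = y * a) ∧ y ^ r = 1}
      one_mem' := ⟨one_mem _, fun a _ => by simp, one_pow _⟩
      mul_mem' := by
        rintro a b ⟨ha, hac, har⟩ ⟨hb, hbc, hbr⟩
        refine ⟨mul_mem ha hb, fun c hc => ((show Commute c a from hac c hc).mul_right (hbc c hc)).eq,
          ?_⟩
        rw [(show Commute a b from (hbc a ha)).mul_pow, har, hbr, one_mul]
      inv_mem' := by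
        rintro a ⟨ha, hac, har⟩
        exact ⟨inv_mem ha, fun c hc => ((show Commute c a from hac c hc).inv_right).eq,
          by rw [inv_pow, har, inv_one]⟩ }
  have hAR : A ≤ R := fun y hy => hy.1
  obtain ⟨a, haA, hao⟩ : ∃ a ∈ A, orderOf a = r := by
    have := hR.center_nontrivial
    have hd : r ∣ Nat.card (center R) :=
      (hR.to_subgroup _).card_eq_or_dvd.resolve_left Finite.one_lt_card.ne'
    obtain ⟨⟨a, ha⟩, hao⟩ := exists_prime_orderOf_dvd_card' r hd
    rw [← Subgroup.orderOf_coe, ← Subgroup.orderOf_coe] at hao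
    exact ⟨a, ⟨a.2, fun c hc => congrArg Subtype.val (mem_center_iff.1 ha ⟨c, hc⟩),
      hao ▸ pow_orderOf_eq_one _⟩, hao⟩
  have hxA : x ∈ normalizer (A : Set G) := by
    rw [mem_normalizer_iff]
    intro y
    have key : ∀ g ∈ normalizer (R : Set G), ∀ y ∈ A, g * y * g⁻¹ ∈ A := by
      rintro g hg y ⟨hy, hyc, hyr⟩
      refine ⟨(mem_normalizer_iff.1 hg y).1 hy, fun c hc => ?_, by rw [conj_pow, hyr, mul_one, mul_inv_cancel]⟩
      have hc' := hyc _ ((mem_normalizer_iff.1 (inv_mem hg) c).1 hc)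
      rw [inv_inv] at hc'
      calc c * (g * y * g⁻¹) = g * ((g⁻¹ * c * g) * y) * g⁻¹ := by group
        _ = g * y * g⁻¹ * c := by rw [hc']; group
    exact ⟨key x hxR y, fun hy => by
      have := key x⁻¹ (inv_mem hxR) _ hy
      rwa [show x⁻¹ * (x * y * x⁻¹) * x⁻¹⁻¹ = y by group] at this⟩
  -- `A` is cyclic, as it acts without fixed points on the centre of `S`
  let V : Subgroup G := (center S).map S.subtype
  have hVab : IsMulCommutative V := inferInstance
  have hV1 : V ≠ ⊥ := by
    have := hS.center_nontrivial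
    intro e
    rw [map_eq_bot_iff_of_injective _ S.subtype_injective] at e
    exact (Subgroup.nontrivial_iff_ne_bot _).1 this e
  have hAV : A ≤ normalizer (V : Set G) :=
    (hAR.trans hRS).trans (Spectrum.SelfThree.normalizer_le_normalizer_Zc S)
  have hAc : IsCyclic A := by
    refine Cfsg.Agent.S0041.result A V hV1 hAV (fun y hy hy1 => eq_bot_iff.2 ?_)
      (Or.inl ⟨⟨fun a b => Subtype.ext (b.2.2.1 a a.2.1)⟩⟩)
    rintro v ⟨⟨w, -, rfl⟩, hv2⟩
    exact mem_bot.2 (hfpf y (hAR hy) hy1 _ w.2 (mem_centralizer_singleton_iff.1 hv2).symm)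
  have hAY : A = zpowers a := by
    refine (Subgroup.eq_of_le_of_card_ge (zpowers_le.2 haA) ?_).symm
    rw [Nat.card_zpowers, hao]
    obtain ⟨g, hg⟩ := hAc.exists_generator
    rw [← orderOf_eq_card_of_forall_mem_zpowers hg, ← Subgroup.orderOf_coe]
    exact orderOf_le_of_pow_eq_one hr.pos g.2.2.2
  have hxY : x ∈ normalizer ((zpowers a : Subgroup G) : Set G) := hAY ▸ hxA
  have ha1 : a ≠ 1 := fun e => by simp [e, eq_comm, hr.one_lt.ne'] at hao
  have hnc : ¬ Commute a x := by
    intro hc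
    have hmem : a * z * a⁻¹ ∈ S := (mem_normalizer_iff.1 (hRS (hAR haA)) z).1 hzS
    have hcx : Commute (a * z * a⁻¹) x := ((hc.mul_left h.comm).mul_left hc.inv_left)
    rcases h.eq_of_commute_x hS hSz hmem hcx with e | e
    · exact h.z_ne (by simpa using e)
    · exact h.z_ne (hfpf a (hAR haA) ha1 z hzS (mul_inv_eq_iff_eq_mul.1 e))
  -- the Frobenius group
  let B : Subgroup G := zpowers a ⊔ zpowers x
  have hB : B ≤ normalizer (S : Set G) :=
    sup_le (zpowers_le.2 (hRS (hAR haA))) (zpowers_le.2 hxS)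
  let θ := actHom (S := S) hB
  let K : Subgroup B := (zpowers a).subgroupOf B
  let R' : Subgroup B := (zpowers x).subgroupOf B
  have hKn : K.Normal := normal_subgroupOf_of_le_normalizer
    (sup_le le_normalizer (zpowers_le.2 hxY))
  have hKc : Nat.card K = r := by
    rw [Nat.card_congr (subgroupOfEquivOfLe le_sup_left).toEquiv, Nat.card_zpowers, hao]
  have hRc : Nat.card R' = 3 := by
    rw [Nat.card_congr (subgroupOfEquivOfLe le_sup_right).toEquiv, Nat.card_zpowers, h.hx]
  have hdisj : Disjoint K R' := disjoint_of_coprime_natCard (by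
    rw [hKc, hRc]; exact (Nat.coprime_primes hr Nat.prime_three).2 hr3)
  have hcompl : IsComplement' K R' := by
    refine isComplement'_of_disjoint_and_mul_eq_univ hdisj ?_
    rw [← normal_mul, ← subgroupOf_sup le_sup_left le_sup_right, subgroupOf_self, coe_top]
  have hfix : ∀ r' ∈ R', r' ≠ 1 → ∀ k ∈ K, r' * k = k * r' → k = 1 := by
    intro r' hr' hr'1 k hk hcomm
    by_contra hk1
    apply hnc
    have hc : Commute (r' : G) (k : G) := congrArg Subtype.val hcomm
    have gen : ∀ {g : G}, (orderOf g).Prime → ∀ {w : G}, w ∈ zpowers g → w ≠ 1 → g ∈ zpowers w := by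
      intro g hg w hw hw1
      have hle : zpowers w ≤ zpowers g := zpowers_le.2 hw
      have hd := card_dvd_of_le hle
      rw [Nat.card_zpowers, Nat.card_zpowers] at hd
      have : orderOf w = orderOf g := by
        rcases (Nat.dvd_prime hg).1 hd with e | e
        · exact absurd (orderOf_eq_one_iff.1 e) hw1
        · exact e
      rw [Subgroup.eq_of_le_of_card_ge hle (by rw [Nat.card_zpowers, Nat.card_zpowers, this])]
      exact mem_zpowers g
    obtain ⟨i, hi⟩ := mem_zpowers_iff.1 (gen (g := x) (by rw [h.hx]; exact Nat.prime_three)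
      (mem_subgroupOf.1 hr') (fun e => hr'1 (Subtype.ext e)))
    obtain ⟨j, hj⟩ := mem_zpowers_iff.1 (gen (g := a) (by rw [hao]; exact hr)
      (mem_subgroupOf.1 hk) (fun e => hk1 (Subtype.ext e)))
    rw [← hi, ← hj]
    exact hc.symm.zpow_zpow j i
  have hcop : (Nat.card B).Coprime (Nat.card S) := by
    obtain ⟨n, hn⟩ := hS.exists_card_eq
    rw [hn, ← hcompl.card_mul_card, hKc, hRc]
    exact Nat.Coprime.pow_right _ ((Nat.coprime_primes hr Nat.prime_two).2 hr2 |>.mul_left (by norm_num))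
  have hK0 : OddLocal.FrobeniusAction.fixed θ K = ⊥ := by
    refine eq_bot_iff.2 fun s hs => mem_bot.2 ?_
    have := OddLocal.FrobeniusAction.mem_fixed.1 hs ⟨a, le_sup_left (b := zpowers x) (mem_zpowers a)⟩
      (mem_subgroupOf.2 (mem_zpowers a))
    have e : a * (s : G) * a⁻¹ = s := congrArg Subtype.val this
    exact Subtype.ext (hfpf a (hAR haA) ha1 s s.2 (mul_inv_eq_iff_eq_mul.1 e))
  have := hS.isNilpotent
  have hmain := OddLocal.FrobeniusAction.card_eq_pow hcompl hfix _ S θ rfl hcop hK0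
  have hfix2 : Nat.card (OddLocal.FrobeniusAction.fixed θ R') = 2 := by
    have e : OddLocal.FrobeniusAction.fixed θ R' = zpowers (⟨z, hzS⟩ : S) := by
      ext s
      constructor
      · intro hs
        have := OddLocal.FrobeniusAction.mem_fixed.1 hs ⟨x, le_sup_right (a := zpowers a) (mem_zpowers x)⟩
          (mem_subgroupOf.2 (mem_zpowers x))
        have e : x * (s : G) * x⁻¹ = s := congrArg Subtype.val this
        rcases h.eq_of_commute_x hS hSz s.2 (mul_inv_eq_iff_eq_mul.1 e).symm with e' | e'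
        · rw [show s = 1 from Subtype.ext e']; exact one_mem _
        · rw [show s = ⟨z, hzS⟩ from Subtype.ext e']; exact mem_zpowers _
      · intro hs
        obtain ⟨i, rfl⟩ := mem_zpowers_iff.1 hs
        refine OddLocal.FrobeniusAction.mem_fixed.2 fun b hb => Subtype.ext ?_
        obtain ⟨j, hj⟩ := mem_zpowers_iff.1 (mem_subgroupOf.1 hb)
        rw [actHom_apply, ← hj, Subgroup.coe_zpow, mul_inv_eq_iff_eq_mul]
        exact (h.comm.zpow_zpow i j).symm
    rw [e, Nat.card_zpowers, ← Subgroup.orderOf_coe]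
    exact h.hz
  rw [hmain, hfix2, hRc]
  norm_num

omit [Finite G] in
/-- An element of odd prime-power order commuting with a nontrivial 2-element has prime dividing
`|C(z)|`. -/
theorem Ctx.dvd_of_commute (h : Ctx G z x) {r : ℕ} (hr : r.Prime) {R : Subgroup G}
    (hR : IsPGroup r R) {y : G} (hy : y ∈ R) (hy1 : y ≠ 1) {S : Subgroup G} (hS : IsPGroup 2 S)
    {s : G} (hs : s ∈ S) (hs1 : s ≠ 1) (hc : Commute y s) : r ∣ Nat.card (Cen z) := by
  have : Fact r.Prime := ⟨hr⟩
  have : Fact (Nat.Prime 2) := ⟨Nat.prime_two⟩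
  obtain ⟨n, hn⟩ := IsPGroup.iff_orderOf.1 hS ⟨s, hs⟩
  rw [← Subgroup.orderOf_coe] at hn
  obtain ⟨m, rfl⟩ : ∃ m, n = m + 1 := by
    rcases n with _ | m
    · exact absurd (orderOf_eq_one_iff.1 (by simpa using hn)) hs1
    · exact ⟨m, rfl⟩
  have hv : orderOf (s ^ 2 ^ m) = 2 := by
    rw [orderOf_pow' s (by positivity), hn, Nat.gcd_eq_right (pow_dvd_pow 2 (Nat.le_succ m)),
      pow_succ, Nat.mul_div_cancel_left _ (by positivity)]
  obtain ⟨g, hg⟩ := h.exists_conj hv
  have hgy : g * y * g⁻¹ ∈ Cen z := by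
    refine mem_cen.2 ?_
    have := (hc.pow_right (2 ^ m)).map (MulAut.conj g)
    simp only [MulAut.conj_apply] at this
    rwa [hg] at this
  obtain ⟨k, hk⟩ := IsPGroup.iff_orderOf.1 hR ⟨y, hy⟩
  rw [← Subgroup.orderOf_coe] at hk
  have hk0 : k ≠ 0 := fun e => hy1 (orderOf_eq_one_iff.1 (by simpa [e] using hk))
  have hd := orderOf_dvd_natCard (Cen z) hgy
  rw [← MulAut.conj_apply, MulEquiv.orderOf_eq, hk] at hd
  exact (dvd_pow_self r hk0).trans hd

end Cfsg.Agent.Lib.SelfCentSix9
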