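import Cfsg.Agent.Lib.SelfCentSix9.Quad
import Cfsg.Agent.Lib.Fg6.OrderThreeAut
import Cfsg.Agent.Lib.Elem70.ClassTwoRank

/-!
# Fusion in the four-group of a good involution

If `Ω₁(Z(S)) = ⟨z⟩` and `u` is good in the Sylow 2-subgroup `S ≤ C(z)`, then `D = C_S(u)` has index two and
some element of order three normalises `D` and permutes `z`, `u`, `u z` cyclically.
-/

set_option autoImplicit false

namespace Cfsg.Agent.Lib.SelfCentSix9

open Subgroup

universe u

variable {G : Type u} [Group G]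

/-- `Ω₁(Z(S))`. -/
def zOne (S : Subgroup G) : Subgroup G where
  carrier := {y | y ∈ S ∧ (∀ s ∈ S, s * y = y * s) ∧ y * y = 1}
  one_mem' := ⟨one_mem _, fun s _ => by simp, mul_one 1⟩
  mul_mem' := by
    rintro a b ⟨ha, hac, ha2⟩ ⟨hb, hbc, hb2⟩
    refine ⟨mul_mem ha hb, fun s hs => ((show Commute s a from hac s hs).mul_right (hbc s hs)).eq, ?_⟩
    rw [show a * b * (a * b) = a * (b * a) * b by group, ← hbc a ha,
      show a * (a * b) * b = a * a * (b * b) by group, ha2, hb2, one_mul]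
  inv_mem' := by
    rintro a ⟨ha, hac, ha2⟩
    exact ⟨inv_mem ha, fun s hs => ((show Commute s a from hac s hs).inv_right).eq,
      by rw [← mul_inv_rev, ha2, inv_one]⟩

theorem mem_zOne {S : Subgroup G} {y : G} :
    y ∈ zOne S ↔ y ∈ S ∧ (∀ s ∈ S, s * y = y * s) ∧ y * y = 1 := Iff.rfl

theorem zOne_le (S : Subgroup G) : zOne S ≤ S := fun _ hy => hy.1

theorem zOne_conj {S : Subgroup G} {g : G} (hg : g ∈ normalizer (S : Set G)) {y : G}
    (hy : y ∈ zOne S) : g * y * g⁻¹ ∈ zOne S := by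
  refine ⟨(mem_normalizer_iff.1 hg y).1 hy.1, fun s hs => ?_, ?_⟩
  · have hs' : g⁻¹ * s * g ∈ S := by
      have := (mem_normalizer_iff.1 (inv_mem hg) s).1 hs
      rwa [inv_inv] at this
    calc s * (g * y * g⁻¹) = g * ((g⁻¹ * s * g) * y) * g⁻¹ := by group
      _ = g * y * g⁻¹ * s := by rw [hy.2.1 _ hs']; group
  · rw [show g * y * g⁻¹ * (g * y * g⁻¹) = g * (y * y) * g⁻¹ by group, hy.2.2, mul_one, mul_inv_cancel]

/-- An element of order three fixes `|P|` modulo three elements of a subgroup it normalises. -/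
theorem card_modEq_fixed [Finite G] {c : G} (hc : orderOf c = 3) {P : Subgroup G}
    (hcP : c ∈ normalizer (P : Set G)) :
    Nat.card P ≡ Nat.card (P ⊓ Cen c : Subgroup G) [MOD 3] := by
  classical
  have : Fact (Nat.Prime 3) := ⟨Nat.prime_three⟩
  let _ : MulAction (zpowers c) P :=
    MulAction.compHom P ((P.normalizerMonoidHom).comp (Subgroup.inclusion (zpowers_le.2 hcP)))
  have hp : IsPGroup 3 (zpowers c) :=
    IsPGroup.of_card (n := 1) (by rw [Nat.card_zpowers, hc, pow_one])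
  have h := hp.card_modEq_card_fixedPoints P
  have hsmul : ∀ (g : zpowers c) (p : P), ((g • p : P) : G) = (g : G) * p * (g : G)⁻¹ := fun g p => rfl
  have e : Nat.card (MulAction.fixedPoints (zpowers c) P) = Nat.card (P ⊓ Cen c : Subgroup G) := by
    refine Nat.card_congr
      { toFun := fun p => ⟨(p.1 : G), p.1.2, mem_cen.2 ?_⟩
        invFun := fun p => ⟨⟨p.1, p.2.1⟩, ?_⟩
        left_inv := fun p => rfl
        right_inv := fun p => rfl }
    · have := congrArg Subtype.val (p.2 ⟨c, mem_zpowers c⟩)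
      rw [hsmul] at this
      exact (mul_inv_eq_iff_eq_mul.1 this).symm
    · intro g
      obtain ⟨k, hk⟩ := mem_zpowers_iff.1 g.2
      refine Subtype.ext ?_
      rw [hsmul, ← hk]
      exact mul_inv_eq_iff_eq_mul.2 ((mem_cen.1 p.2.2).symm.zpow_left k).eq
  rw [← e]
  exact h

namespace Ctx

variable {z x : G} (h : Ctx G z x)
include h

/-- `x` does not multiply an element by `z`. -/
theorem x_not_mul_z {a : G} (e : x * a * x⁻¹ = z * a) : False := by
  have e2 : ∀ w : G, x * (z * w) * x⁻¹ = z * (x * w * x⁻¹) := by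
    intro w
    rw [← mul_assoc x z w, ← h.comm.eq]
    group
  have e3 : a = z * (z * (z * a)) := by
    calc a = x ^ 3 * a * (x ^ 3)⁻¹ := by rw [h.x_cube]; group
      _ = x * (x * (x * a * x⁻¹) * x⁻¹) * x⁻¹ := by
          simp only [pow_succ, pow_zero, one_mul]; group
      _ = z * (z * (z * a)) := by rw [e, e2, e, e2, e2, e]
  rw [← mul_assoc z z, h.z_sq, one_mul] at e3
  exact h.z_ne (mul_eq_right.1 e3.symm)

variable [Finite G]

omit [Finite G] in
/-- An element of a 2-group of `C(z)` fixed by `x` modulo `⟨z⟩` lies in `⟨z⟩`. -/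
theorem mem_of_fixed_mod {P : Subgroup G} (hP : IsPGroup 2 P) (hPz : P ≤ Cen z) {a : G} (ha : a ∈ P)
    (hfix : cm x a ∈ zpowers z) : a = 1 ∨ a = z := by
  rcases h.cases_zpowers_z hfix with e | e
  · exact h.eq_of_commute_x hP hPz ha (cm_eq_one_iff.1 e).symm
  · exact (h.x_not_mul_z (mul_inv_eq_iff_eq_mul.1 e)).elim

omit [Finite G] in
/-- `C_P(x) = ⟨z⟩` for a 2-group `P` of `C(z)` containing `z`. -/
theorem card_inf_cen_x {P : Subgroup G} (hP : IsPGroup 2 P) (hPz : P ≤ Cen z) (hzP : z ∈ P) :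
    Nat.card (P ⊓ Cen x : Subgroup G) = 2 := by
  have : P ⊓ Cen x = zpowers z := by
    refine le_antisymm (fun y hy => ?_) (zpowers_le.2 ⟨hzP, mem_cen.2 h.comm⟩)
    rcases h.eq_of_commute_x hP hPz hy.1 (mem_cen.1 hy.2) with e | e <;> rw [e]
    · exact one_mem _
    · exact mem_zpowers z
  rw [this, Nat.card_zpowers, h.hz]

/-- A four-group is centralised by no element of order three. -/
theorem not_commute_two {c : G} (hc : orderOf c = 3) {a b : G} (ha : a * a = 1) (hb : b * b = 1)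
    (hab : Commute a b) (ha1 : a ≠ 1) (hb1 : b ≠ 1) (hne : a ≠ b) (hca : Commute c a)
    (hcb : Commute c b) : False := by
  let V : Subgroup G :=
    { carrier := {1, a, b, a * b}
      one_mem' := by simp
      mul_mem' := by
        have e1 : a * (a * b) = b := by rw [← mul_assoc, ha, one_mul]
        have e2 : b * (a * b) = a := by rw [hab.eq, ← mul_assoc, hb, one_mul]
        have e3 : a * b * a = b := by rw [mul_assoc, ← hab.eq, e1]
        have e4 : a * b * b = a := by rw [mul_assoc, hb, mul_one]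
        have e5 : a * b * (a * b) = 1 := by rw [← mul_assoc, e3, hb]
        intro p q hp hq
        rcases hp with rfl | rfl | rfl | rfl <;> rcases hq with rfl | rfl | rfl | rfl <;>
          simp [ha, hb, e1, e2, e3, e4, e5, hab.eq.symm]
      inv_mem' := by
        have ea : a⁻¹ = a := inv_eq_of_mul_eq_one_right ha
        have eb : b⁻¹ = b := inv_eq_of_mul_eq_one_right hb
        intro p hp
        rcases hp with rfl | rfl | rfl | rfl <;> simp [ea, eb, hab.eq.symm] }
  have hV : IsPGroup 2 V := by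
    rintro ⟨p, hp⟩
    refine ⟨1, Subtype.ext ?_⟩
    rw [pow_one, pow_two]
    show p * p = 1
    rcases hp with rfl | rfl | rfl | rfl
    · exact mul_one 1
    · exact ha
    · exact hb
    · rw [← pow_two, hab.mul_pow, pow_two, pow_two, ha, hb, one_mul]
  refine hne (h.eq_of_mem_cent_three hc hV ?_ (u := a) (v := b) (by show a ∈ ({1, a, b, a * b} : Set G); simp)
    (by show b ∈ ({1, a, b, a * b} : Set G); simp) ha1 hb1)
  intro p hp
  rcases hp with rfl | rfl | rfl | rfl
  · exact one_mem _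
  · exact mem_cen.2 hca.symm
  · exact mem_cen.2 hcb.symm
  · exact mem_cen.2 (hca.symm.mul_left hcb.symm)

variable (S : Sylow 2 G) (hSz : (S : Subgroup G) ≤ Cen z)
include hSz

omit [Finite G] in
theorem z_mem_zOne : z ∈ zOne (S : Subgroup G) := by
  have hsup : (S : Subgroup G) ⊔ zpowers z ≤ Cen z := sup_le hSz (zpowers_le.2 (mem_cen.2 (Commute.refl z)))
  have hzS : z ∈ (S : Subgroup G) := by
    have hp : IsPGroup 2 ((S : Subgroup G) ⊔ zpowers z : Subgroup G) :=
      S.isPGroup'.to_sup_of_normal_right' (IsPGroup.of_card (n := 1)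
        (by rw [Nat.card_zpowers, h.hz, pow_one]))
        fun s hs => mem_normalizer_iff.2 fun y => by
          have hc : ∀ w ∈ zpowers z, s * w * s⁻¹ = w := fun w hw => h.conj_zpowers (hSz hs) hw
          refine ⟨fun hy => (hc y hy).symm ▸ hy, fun hy => ?_⟩
          have := h.conj_zpowers (inv_mem (hSz hs)) hy
          rw [show s⁻¹ * (s * y * s⁻¹) * s⁻¹⁻¹ = y by group] at this
          exact this.symm ▸ hy
    exact (S.3 hp le_sup_left) ▸ le_sup_right (a := (S : Subgroup G)) (mem_zpowers z)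
  exact ⟨hzS, fun s hs => (mem_cen.1 (hSz hs)).eq, h.z_sq⟩

variable (hsmall : ∀ v ∈ zOne (S : Subgroup G), v = 1 ∨ v = z) {u : G}
  (g : Good z (S : Subgroup G) u)
include hsmall g

/-- Some element of `S` moves `u` to `u z`. -/
theorem exists_moving : ∃ q ∈ (S : Subgroup G), q * u * q⁻¹ = u * z := by
  by_contra hne
  push Not at hne
  have hu : u ∈ zOne (S : Subgroup G) := by
    refine ⟨g.mem, fun s hs => ?_, g.sq⟩
    rcases h.cases_zpowers_z (g.cent s hs) with e | e
    · exact cm_eq_one_iff.1 e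
    · refine absurd ?_ (hne s hs)
      rw [mul_inv_eq_iff_eq_mul.1 e]
      exact (mem_cen.1 (hSz g.mem)).symm.eq
  rcases hsmall u hu with e | e
  · exact g.ne_one e
  · exact g.ne e

theorem relIndex_centralizer : ((S : Subgroup G) ⊓ Cen u).relIndex (S : Subgroup G) = 2 := by
  obtain ⟨q, hq, hqu⟩ := h.exists_moving S hSz hsmall g
  rw [Subgroup.relIndex, index_eq_two_iff]
  refine ⟨⟨q, hq⟩, fun s => ?_⟩
  simp only [mem_subgroupOf, Subgroup.coe_mul, mem_inf, mem_cen, mul_mem (s.2) hq, s.2, true_and]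
  have hcm : cm q u = z := by
    rw [cm, hqu, g.inv_self, show u * z * u = (u * u) * z by
      rw [mul_assoc, ← (mem_cen.1 (hSz g.mem)).eq, ← mul_assoc], g.sq, one_mul]
  rcases h.cases_zpowers_z (g.cent s s.2) with e | e
  · refine Or.inr ⟨cm_eq_one_iff.1 e, fun hc => ?_⟩
    have := cm_eq_one_iff.2 hc
    rw [h.cm_mul_left hSz s.2 g.mem (hcm ▸ mem_zpowers z), e, hcm, one_mul] at this
    exact h.z_ne this
  · refine Or.inl ⟨cm_eq_one_iff.1 ?_, fun hc => h.z_ne (e.symm.trans (cm_eq_one_iff.2 hc))⟩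
    rw [h.cm_mul_left hSz s.2 g.mem (hcm ▸ mem_zpowers z), e, hcm, h.z_sq]

/-- A central involution of `D = C_S(u)` lies in `{1, z, u, u z}`. -/
theorem zOne_centralizer {w : G} (hw : w ∈ zOne ((S : Subgroup G) ⊓ Cen u)) :
    w = 1 ∨ w = z ∨ w = u ∨ w = u * z := by
  set D := (S : Subgroup G) ⊓ Cen u with hD
  obtain ⟨q, hq, hqu⟩ := h.exists_moving S hSz hsmall g
  have hidx : (D.subgroupOf (S : Subgroup G)).index = 2 := h.relIndex_centralizer S hSz hsmall g
  have hqD : q ∉ D := fun hqD => g.ne_one <| by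
    have := mul_inv_eq_iff_eq_mul.2 (mem_cen.1 hqD.2).eq
    rw [hqu] at this
    exact absurd (mul_eq_left.1 this) h.z_ne
  have hnorm : q ∈ normalizer (D : Set G) := by
    have hn := normal_of_index_eq_two hidx
    exact (normal_subgroupOf_iff_le_normalizer (inf_le_left : D ≤ (S : Subgroup G))).1 hn hq
  have hq2 : q * q ∈ D := by
    have := Subgroup.sq_mem_of_index_two hidx (⟨q, hq⟩ : (S : Subgroup G))
    rw [pow_two, mem_subgroupOf] at this
    exact this
  -- an element of `Ω₁(Z(D))` fixed by `q` is central in `S`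
  have hfix : ∀ a ∈ zOne D, Commute q a → a = 1 ∨ a = z := by
    intro a ha hqa
    refine hsmall a ⟨ha.1.1, fun s hs => ?_, ha.2.2⟩
    by_cases hsD : s ∈ D
    · exact ha.2.1 s hsD
    · have hqs : s * q ∈ D := by
        have := (Subgroup.mul_mem_iff_of_index_two hidx (a := (⟨s, hs⟩ : (S : Subgroup G)))
          (b := ⟨q, hq⟩)).2 (iff_of_false (by simpa [mem_subgroupOf] using hsD)
            (by simpa [mem_subgroupOf] using hqD))
        simpa [mem_subgroupOf] using this
      have := (show Commute (s * q) a from ha.2.1 _ hqs).mul_left hqa.inv_left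
      rwa [mul_inv_cancel_right] at this
  have hu : u ∈ zOne D := ⟨⟨g.mem, mem_cen.2 (Commute.refl u)⟩, fun s hs => (mem_cen.1 hs.2).eq, g.sq⟩
  have hcmem : cm q w ∈ zOne D := mul_mem (zOne_conj hnorm hw) (inv_mem hw)
  have hcomm : Commute q (cm q w) := by
    have e : q * cm q w * q⁻¹ = (q * q * w * (q * q)⁻¹) * (q * w * q⁻¹)⁻¹ := by simp only [cm]; group
    have e2 : q * q * w * (q * q)⁻¹ = w := mul_inv_eq_iff_eq_mul.2 (hw.2.1 _ hq2)
    rw [e2] at e
    have e3 : w * (q * w * q⁻¹)⁻¹ = (cm q w)⁻¹ := by simp only [cm]; group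
    have e4 : (cm q w)⁻¹ = cm q w := inv_eq_of_mul_eq_one_right hcmem.2.2
    rw [e3, e4] at e
    exact mul_inv_eq_iff_eq_mul.1 e
  rcases hfix _ hcmem hcomm with e | e
  · rcases hfix w hw (cm_eq_one_iff.1 e) with e' | e'
    · exact Or.inl e'
    · exact Or.inr (Or.inl e')
  · have hwu : w * u ∈ zOne D := mul_mem hw hu
    have hcu : cm q u = z := by
      rw [cm, hqu, g.inv_self, show u * z * u = (u * u) * z by
        rw [mul_assoc, ← (mem_cen.1 (hSz g.mem)).eq, ← mul_assoc], g.sq, one_mul]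
    have hc : Commute q (w * u) := cm_eq_one_iff.1 (by
      rw [h.cm_mul_right hSz hq hw.1.1 (hcu ▸ mem_zpowers z), e, hcu, h.z_sq])
    rcases hfix _ hwu hc with e' | e'
    · exact Or.inr (Or.inr (Or.inl (eq_inv_of_mul_eq_one_left e' |>.trans g.inv_self)))
    · refine Or.inr (Or.inr (Or.inr ?_))
      calc w = w * u * u := by rw [mul_assoc, g.sq, mul_one]
        _ = z * u := by rw [e']
        _ = u * z := (mem_cen.1 (hSz g.mem)).symm.eq

/-- An element of order three normalising `C_S(u)` permutes `z`, `u`, `u z` cyclically. -/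
theorem exists_fuse : ∃ c : G, orderOf c = 3 ∧
    c ∈ normalizer (((S : Subgroup G) ⊓ Cen u : Subgroup G) : Set G) ∧
    c * z * c⁻¹ = u ∧ c * u * c⁻¹ = u * z ∧ c * (u * z) * c⁻¹ = z := by
  classical
  have : Fact (Nat.Prime 2) := ⟨Nat.prime_two⟩
  set D := (S : Subgroup G) ⊓ Cen u with hD
  obtain ⟨q, hq, hqu⟩ := h.exists_moving S hSz hsmall g
  have hidx : (D.subgroupOf (S : Subgroup G)).index = 2 := h.relIndex_centralizer S hSz hsmall g
  have hcardS : Nat.card (S : Subgroup G) = 2 * Nat.card D := by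
    have := (D.subgroupOf (S : Subgroup G)).card_mul_index
    have hle : D ≤ (S : Subgroup G) := inf_le_left
    rw [hidx, Nat.card_congr (subgroupOfEquivOfLe hle).toEquiv, mul_comm] at this
    exact this.symm
  have hqN : q ∈ normalizer (D : Set G) :=
    (normal_subgroupOf_iff_le_normalizer (inf_le_left : D ≤ (S : Subgroup G))).1
      (normal_of_index_eq_two hidx) hq
  -- a Sylow 2-subgroup `R` of `C(u)` above `D`
  obtain ⟨S₁, hS₁⟩ := h.exists_sylow_le
  obtain ⟨k, hk⟩ := h.exists_conj g.ord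
  have hS' : ((k⁻¹ • S₁ : Sylow 2 G) : Subgroup G) ≤ Cen u := by
    rw [Sylow.coe_subgroup_smul]
    rintro _ ⟨y, hy, rfl⟩
    refine mem_cen.2 ?_
    have := (mem_cen.1 (hS₁ hy)).map (MulAut.conj k⁻¹)
    simp only [MulAut.conj_apply] at this
    rw [← hk, show k⁻¹ * (k * u * k⁻¹) * k⁻¹⁻¹ = u by group] at this
    exact this
  have hDu : IsPGroup 2 (D.subgroupOf (Cen u)) :=
    (S.isPGroup'.to_le inf_le_left).of_equiv (subgroupOfEquivOfLe (inf_le_right : D ≤ Cen u)).symm
  obtain ⟨R₀, hR₀⟩ := hDu.exists_le_sylow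
  set R := (R₀ : Subgroup (Cen u)).map (Cen u).subtype with hRdef
  have hRp : IsPGroup 2 R := R₀.isPGroup'.map _
  have hRu : R ≤ Cen u := map_subtype_le _
  have hDR : D ≤ R := fun y hy => ⟨⟨y, hy.2⟩, hR₀ (mem_subgroupOf.2 hy), rfl⟩
  have hcardR : Nat.card R = Nat.card (S : Subgroup G) := by
    obtain ⟨T, hT⟩ := hRp.exists_le_sylow
    refine le_antisymm ((card_le_of_le hT).trans_eq (by rw [T.card_eq_multiplicity, S.card_eq_multiplicity])) ?_
    have h1 : IsPGroup 2 (((k⁻¹ • S₁ : Sylow 2 G) : Subgroup G).subgroupOf (Cen u)) :=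
      (k⁻¹ • S₁).isPGroup'.of_equiv (subgroupOfEquivOfLe hS').symm
    obtain ⟨T', hT'⟩ := h1.exists_le_sylow
    calc Nat.card (S : Subgroup G) = Nat.card ((k⁻¹ • S₁ : Sylow 2 G) : Subgroup G) := by
          rw [S.card_eq_multiplicity, (k⁻¹ • S₁).card_eq_multiplicity]
      _ = Nat.card (((k⁻¹ • S₁ : Sylow 2 G) : Subgroup G).subgroupOf (Cen u)) :=
          Nat.card_congr (subgroupOfEquivOfLe hS').symm.toEquiv
      _ ≤ Nat.card (T' : Subgroup (Cen u)) := card_le_of_le hT'
      _ = Nat.card R := by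
          rw [hRdef, card_map_of_injective (Cen u).subtype_injective, T'.card_eq_multiplicity,
            R₀.card_eq_multiplicity]
  obtain ⟨T, hRT⟩ := hRp.exists_le_sylow
  have hTR : (T : Subgroup G) = R := (Subgroup.eq_of_le_of_card_ge hRT (by
    rw [hcardR, T.card_eq_multiplicity, S.card_eq_multiplicity])).symm
  have hDRidx : (D.subgroupOf R).index = 2 := by
    have h1 := (D.subgroupOf R).card_mul_index
    rw [Nat.card_congr (subgroupOfEquivOfLe hDR).toEquiv, hcardR, hcardS] at h1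
    have : 0 < Nat.card D := Nat.card_pos
    nlinarith
  have hRN : R ≤ normalizer (D : Set G) :=
    (normal_subgroupOf_iff_le_normalizer hDR).1 (normal_of_index_eq_two hDRidx)
  have huD : u ∈ D := ⟨g.mem, mem_cen.2 (Commute.refl u)⟩
  have hzD : z ∈ zOne D := by
    have hz' := h.z_mem_zOne S hSz
    exact ⟨⟨hz'.1, mem_cen.2 (mem_cen.1 (hSz g.mem)).symm⟩, fun s hs => hz'.2.1 s hs.1, h.z_sq⟩
  -- an element of `R` moves `z`
  obtain ⟨r, hr, hrz⟩ : ∃ r ∈ R, r * z * r⁻¹ ≠ z := by
    by_contra hne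
    push Not at hne
    obtain ⟨a, ha⟩ := MulAction.exists_smul_eq G T S
    have hmem : ∀ w : G, w ∈ R → (∀ s ∈ R, s * w = w * s) → w * w = 1 →
        MulAut.conj a w ∈ zOne (S : Subgroup G) := by
      intro w hw hwc hw2
      have hS_eq : (S : Subgroup G) = (T : Subgroup G).map (MulAut.conj a).toMonoidHom := by
        rw [← ha]; rfl
      refine ⟨hS_eq ▸ ⟨w, hTR ▸ hw, rfl⟩, ?_, by rw [← map_mul, hw2, map_one]⟩
      intro s hs
      rw [hS_eq] at hs
      obtain ⟨s', hs', rfl⟩ := hs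
      have := congrArg (MulAut.conj a) (hwc s' (hTR ▸ hs'))
      rwa [map_mul, map_mul] at this
    have hu' := hmem u (hDR huD) (fun s hs => (mem_cen.1 (hRu hs)).eq) g.sq
    have hz' := hmem z (hDR hzD.1) (fun s hs => mul_inv_eq_iff_eq_mul.1 (hne s hs)) h.z_sq
    rcases hsmall _ hu' with e1 | e1
    · exact g.ne_one ((map_eq_one_iff _ (MulAut.conj a).injective).1 e1)
    rcases hsmall _ hz' with e2 | e2
    · exact h.z_ne ((map_eq_one_iff _ (MulAut.conj a).injective).1 e2)
    exact g.ne ((MulAut.conj a).injective (e1.trans e2.symm))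
  have hru : r * u * r⁻¹ = u := mul_inv_eq_iff_eq_mul.2 (mem_cen.1 (hRu hr)).eq
  have hrz' : r * z * r⁻¹ = u * z := by
    rcases h.zOne_centralizer S hSz hsmall g (zOne_conj (hRN hr) hzD) with e | e | e | e
    · exact absurd (by simpa using e) h.z_ne
    · exact absurd e hrz
    · rw [← hru] at e
      exact absurd (by simpa using e) g.ne.symm
    · exact e
  -- the three-cycle
  have hz1 : q * z * q⁻¹ = z := mul_inv_eq_iff_eq_mul.2 (mem_cen.1 (hSz hq)).eq
  set a := q * r with ha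
  have haN : a ∈ normalizer (D : Set G) := mul_mem hqN (hRN hr)
  have a1 : a * z * a⁻¹ = u := by
    calc a * z * a⁻¹ = q * (r * z * r⁻¹) * q⁻¹ := by rw [ha]; group
      _ = (q * u * q⁻¹) * (q * z * q⁻¹) := by rw [hrz']; group
      _ = u := by rw [hqu, hz1, mul_assoc, h.z_sq, mul_one]
  have a2 : a * u * a⁻¹ = u * z := by
    calc a * u * a⁻¹ = q * (r * u * r⁻¹) * q⁻¹ := by rw [ha]; group
      _ = u * z := by rw [hru, hqu]
  have a3 : a * (u * z) * a⁻¹ = z := by
    calc a * (u * z) * a⁻¹ = (a * u * a⁻¹) * (a * z * a⁻¹) := by group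
      _ = z := by
          rw [a1, a2, mul_assoc, ← (mem_cen.1 (hSz g.mem)).eq, ← mul_assoc, g.sq, one_mul]
  have hpow : ∀ i : ℕ, ∀ w ∈ ({z, u, u * z} : Set G), a ^ (3 * i) * w * (a ^ (3 * i))⁻¹ = w := by
    intro i
    induction i with
    | zero => intro w _; simp
    | succ i ih =>
      intro w hw
      have e : a ^ (3 * (i + 1)) * w * (a ^ (3 * (i + 1)))⁻¹ =
          a * (a * (a * (a ^ (3 * i) * w * (a ^ (3 * i))⁻¹) * a⁻¹) * a⁻¹) * a⁻¹ := by
        rw [show 3 * (i + 1) = 1 + (1 + (1 + 3 * i)) by ring, pow_add, pow_add, pow_add, pow_one]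
        group
      rw [e, ih w hw]
      rcases hw with rfl | rfl | rfl
      · rw [a1, a2, a3]
      · rw [a2, a3, a1]
      · rw [a3, a1, a2]
  -- the order of `a` is `3 ^ b * m` and `a ^ (m * m)` acts as `a`
  obtain ⟨b, m, hm3, hab⟩ := Nat.exists_eq_pow_mul_and_not_dvd (orderOf_pos a).ne' 3 (by norm_num)
  have hm1 : ∃ i, m * m = 3 * i + 1 := by
    refine ⟨m * m / 3, ?_⟩
    have : m * m % 3 = 1 := by
      rw [Nat.mul_mod]
      have : m % 3 = 1 ∨ m % 3 = 2 := by omega
      rcases this with e | e <;> rw [e]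
    omega
  obtain ⟨i, hi⟩ := hm1
  set c := a ^ (m * m) with hc
  have hcz : c * z * c⁻¹ = u := by
    rw [hc, hi, pow_succ', show a * a ^ (3 * i) * z * (a * a ^ (3 * i))⁻¹ =
      a * (a ^ (3 * i) * z * (a ^ (3 * i))⁻¹) * a⁻¹ by group, hpow i z (by simp), a1]
  have hcu : c * u * c⁻¹ = u * z := by
    rw [hc, hi, pow_succ', show a * a ^ (3 * i) * u * (a * a ^ (3 * i))⁻¹ =
      a * (a ^ (3 * i) * u * (a ^ (3 * i))⁻¹) * a⁻¹ by group, hpow i u (by simp), a2]
  have hcuz : c * (u * z) * c⁻¹ = z := by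
    calc c * (u * z) * c⁻¹ = (c * u * c⁻¹) * (c * z * c⁻¹) := by group
      _ = z := by
          rw [hcz, hcu, mul_assoc, ← (mem_cen.1 (hSz g.mem)).eq, ← mul_assoc, g.sq, one_mul]
  have hc1 : c ≠ 1 := fun e => g.ne (by rw [← hcz, e]; group)
  have hc3b : c ^ 3 ^ b = 1 := by
    have e : orderOf a ∣ m * m * 3 ^ b := ⟨m, by rw [hab]; ring⟩
    rw [hc, ← pow_mul]
    exact orderOf_dvd_iff_pow_eq_one.1 e
  have hord : orderOf c = 3 := by
    have h3 : Fact (Nat.Prime 3) := ⟨Nat.prime_three⟩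
    obtain ⟨j, -, hj⟩ := (Nat.dvd_prime_pow Nat.prime_three).1 (orderOf_dvd_of_pow_eq_one hc3b)
    rcases j with _ | _ | j
    · exact absurd (orderOf_eq_one_iff.1 (by simpa using hj)) hc1
    · simpa using hj
    · exfalso
      -- a power of `c ^ 3` of order three centralises the four-group
      set d := c ^ 3 ^ (j + 1) with hd
      have hdord : orderOf d = 3 := by
        rw [hd, orderOf_pow' c (by positivity), hj, Nat.gcd_eq_right (pow_dvd_pow 3 (Nat.le_succ _)),
          pow_succ, Nat.mul_div_cancel_left _ (by positivity)]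
      have hdfix : ∀ w ∈ ({z, u, u * z} : Set G), Commute d w := by
        intro w hw
        have e : d = a ^ (3 * (m * m * 3 ^ j)) := by
          rw [hd, hc, ← pow_mul]; congr 1; ring
        rw [e]
        exact mul_inv_eq_iff_eq_mul.1 (hpow _ w hw)
      exact h.not_commute_two hdord h.z_sq g.sq (mem_cen.1 (hSz g.mem)).symm h.z_ne g.ne_one
        (Ne.symm g.ne) (hdfix z (by simp)) (hdfix u (by simp))
  exact ⟨c, hord, pow_mem haN _, hcz, hcu, hcuz⟩

end Ctx

end Cfsg.Agent.Lib.SelfCentSix9
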