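import Cfsg.Agent.Lib.SelfCentSix9.Fuse
import Cfsg.Agent.Lib.SelfCentSix9.Frob
import Cfsg.Agent.Lib.Inv59.EightAuto
import Cfsg.Prelude.Def_Transfer

/-!
# `x` normalising a Sylow 2-subgroup `S ≤ C(z)` forces `S` elementary abelian of order eight

If `Ω₁(Z(S)) = ⟨z⟩`, then `D = C_S(u)` for a good `u` has class at most two and, with the element `c`
fusing `z`, `u`, `u z`, one finds that `D` is abelian, so that `u` would be central.  Otherwise `N(S)` is
transitive on the involutions of `Ω₁(Z(S))` and an `r`-group of it, `r ∤ |C(z)|`, acts without fixed points.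
-/

set_option autoImplicit false

namespace Cfsg.Agent.Lib.SelfCentSix9

open Subgroup

universe u

variable {G : Type u} [Group G] [Finite G]

omit [Finite G] in
/-- Lagrange inside a subgroup. -/
theorem card_relIndex {H K : Subgroup G} (hle : H ≤ K) :
    Nat.card H * H.relIndex K = Nat.card K := by
  rw [← relIndex_bot_left, ← relIndex_bot_left, relIndex_mul_relIndex _ _ _ bot_le hle]

/-- A fixed-point-free element of order three forces class two on a 2-group. -/
theorem comm_central {c : G} (hc : orderOf c = 3) {D : Subgroup G} (hD : IsPGroup 2 D)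
    (hcD : c ∈ normalizer (D : Set G)) (hfpf : ∀ d ∈ D, Commute d c → d = 1) :
    ∀ a ∈ D, ∀ b ∈ D, ∀ e ∈ D, Commute (cm a b) e := by
  let φ : D →* D := (D.normalizerMonoidHom ⟨c, hcD⟩).toMonoidHom
  have hφ : ∀ t : D, ((φ t : D) : G) = c * t * c⁻¹ := fun t => rfl
  have hinj : Function.Injective (fun t : D => t⁻¹ * φ t) := by
    intro a b e
    have e' : (a : G)⁻¹ * (c * a * c⁻¹) = (b : G)⁻¹ * (c * b * c⁻¹) := congrArg Subtype.val e
    have hcomm : Commute ((b : G) * (a : G)⁻¹) c := by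
      show (b : G) * (a : G)⁻¹ * c = c * ((b : G) * (a : G)⁻¹)
      calc (b : G) * (a : G)⁻¹ * c = (b : G) * ((a : G)⁻¹ * (c * a * c⁻¹)) * c * (a : G)⁻¹ := by group
        _ = c * ((b : G) * (a : G)⁻¹) := by rw [e']; group
    exact Subtype.ext (mul_inv_eq_one.1 (hfpf _ (mul_mem b.2 (inv_mem a.2)) hcomm)).symm
  have hrel : ∀ t, t * φ t * φ (φ t) = 1 := by
    intro t
    obtain ⟨a, rfl⟩ := Finite.surjective_of_injective hinj t
    refine Subtype.ext ?_
    simp only [map_mul, map_inv, Subgroup.coe_mul, Subgroup.coe_inv, hφ, Subgroup.coe_one]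
    have h3 : c ^ 3 = 1 := hc ▸ pow_orderOf_eq_one c
    calc (a : G)⁻¹ * (c * a * c⁻¹) * ((c * a * c⁻¹)⁻¹ * (c * (c * a * c⁻¹) * c⁻¹)) *
          ((c * (c * a * c⁻¹) * c⁻¹)⁻¹ * (c * (c * (c * a * c⁻¹) * c⁻¹) * c⁻¹))
        = (a : G)⁻¹ * (c * (c * (c * a * c⁻¹) * c⁻¹) * c⁻¹) := by
          simp only [mul_assoc, mul_inv_rev, inv_inv, mul_inv_cancel_left, inv_mul_cancel_left]
      _ = (a : G)⁻¹ * ((c * c * c) * a * (c * c * c)⁻¹) := by group
      _ = (a : G)⁻¹ * (c ^ 3 * a * (c ^ 3)⁻¹) := by rw [pow_succ, pow_two]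
      _ = 1 := by rw [h3]; group
  have hcl := Fg6.OrderThreeAut.nilpotencyClass_le_two hD φ hrel
  have := hD.isNilpotent
  intro a ha b hb e he
  have h2 := mem_center_iff.1 (Elem70.ClassTwoRank.commutator_mem_center hcl (⟨a, ha⟩ : D) ⟨b, hb⟩) ⟨e, he⟩
  exact (congrArg Subtype.val h2).symm

namespace Ctx

variable {z x : G} (h : Ctx G z x) (S : Sylow 2 G) (hSz : (S : Subgroup G) ≤ Cen z)
  (hxS : x ∈ normalizer ((S : Subgroup G) : Set G))
include h hSz hxS

omit [Finite G] in
/-- Central elements of `S` are in `⟨z⟩` if the central involutions are. -/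
theorem central_le (hsmall : ∀ v ∈ zOne (S : Subgroup G), v = 1 ∨ v = z) {w : G}
    (hw : w ∈ (S : Subgroup G)) (hwc : ∀ s ∈ (S : Subgroup G), s * w = w * s) : w = 1 ∨ w = z := by
  obtain ⟨n, hn⟩ := S.isPGroup' ⟨w, hw⟩
  have hn' : w ^ 2 ^ n = 1 := congrArg Subtype.val hn
  clear hn
  induction n generalizing w with
  | zero => exact Or.inl (by simpa using hn')
  | succ n ih =>
    have hw2 : (w * w) ^ 2 ^ n = 1 := by rw [← pow_two, ← pow_mul, ← pow_succ']; exact hn'
    rcases ih (mul_mem hw hw) (fun s hs => ((show Commute s w from hwc s hs).mul_right (hwc s hs)).eq)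
      hw2 with e | e
    · exact hsmall w ⟨hw, hwc, e⟩
    · exfalso
      set w' := x * w * x⁻¹ with hw'
      have hw'S : w' ∈ (S : Subgroup G) := (mem_normalizer_iff.1 hxS w).1 hw
      have hw'2 : w' * w' = z := by
        rw [hw', show x * w * x⁻¹ * (x * w * x⁻¹) = x * (w * w) * x⁻¹ by group, e]
        exact h.conj_zpowers h.x_mem (mem_zpowers z)
      have hcw : Commute w' w := hwc w' hw'S
      have hq : w' * w⁻¹ ∈ zOne (S : Subgroup G) := by
        refine ⟨mul_mem hw'S (inv_mem hw), fun s hs => ?_, ?_⟩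
        · have h1 : Commute s w' := by
            have hs' : x⁻¹ * s * x ∈ (S : Subgroup G) := by
              have := (mem_normalizer_iff.1 (inv_mem hxS) s).1 hs
              rwa [inv_inv] at this
            have := (show Commute (x⁻¹ * s * x) w from hwc _ hs').map (MulAut.conj x)
            simp only [MulAut.conj_apply] at this
            rwa [show x * (x⁻¹ * s * x) * x⁻¹ = s by group] at this
          exact (h1.mul_right (show Commute s w from hwc s hs).inv_right).eq
        · rw [← pow_two, hcw.inv_right.mul_pow, inv_pow, pow_two, pow_two, hw'2, e, mul_inv_cancel]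
      have hfix : cm x w ∈ zpowers z := by
        rcases hsmall _ hq with e' | e' <;> rw [show cm x w = w' * w⁻¹ from rfl, e']
        · exact one_mem _
        · exact mem_zpowers z
      rcases h.mem_of_fixed_mod S.isPGroup' hSz hw hfix with e' | e'
      · rw [e', one_mul] at e; exact h.z_ne e.symm
      · rw [e', h.z_sq] at e; exact h.z_ne e.symm

/-- `Ω₁(Z(S))` is larger than `⟨z⟩`. -/
theorem exists_zOne : ∃ v ∈ zOne (S : Subgroup G), v ≠ 1 ∧ v ≠ z := by
  classical
  by_contra hne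
  have hsmall : ∀ v ∈ zOne (S : Subgroup G), v = 1 ∨ v = z := by
    intro v hv
    by_contra hv'
    push Not at hv'
    exact hne ⟨v, hv, hv'.1, hv'.2⟩
  have : Fact (Nat.Prime 2) := ⟨Nat.prime_two⟩
  have hzS : z ∈ (S : Subgroup G) := (h.z_mem_zOne S hSz).1
  -- a good involution
  obtain ⟨u, g⟩ : ∃ u, Good z (S : Subgroup G) u := by
    obtain ⟨a, haS, hao, haz⟩ := h.exists_second_invol S z
    rcases h.exists_good S.isPGroup' hzS hSz hxS with h2 | ⟨-, h8⟩ | hg
    · exfalso
      have hle : zpowers z ≤ (S : Subgroup G) := zpowers_le.2 hzS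
      have e := Subgroup.eq_of_le_of_card_ge hle (by rw [h2, Nat.card_zpowers, h.hz])
      rcases h.cases_zpowers_z (e ▸ haS) with e' | e'
      · simp [e'] at hao
      · exact haz e'
    · exact absurd (h8 a haS hao) haz
    · exact hg
  obtain ⟨c, hco, hcD, hcz, hcu, hcuz⟩ := h.exists_fuse S hSz hsmall g
  set D := (S : Subgroup G) ⊓ Cen u with hD
  set u2 := x * u * x⁻¹ with hu2
  set D2 := (S : Subgroup G) ⊓ Cen u2 with hD2
  have hDS : D ≤ (S : Subgroup G) := inf_le_left
  have g2 : Good z (S : Subgroup G) u2 := h.good_conj_x hxS g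
  have hidx : D.relIndex (S : Subgroup G) = 2 := h.relIndex_centralizer S hSz hsmall g
  have hidx2 : D2.relIndex (S : Subgroup G) = 2 := h.relIndex_centralizer S hSz hsmall g2
  have hcardS : Nat.card (S : Subgroup G) = 2 * Nat.card D := by
    rw [← card_relIndex hDS, hidx, mul_comm]
  have hDp : IsPGroup 2 D := S.isPGroup'.to_le hDS
  have hS3 : Nat.card (S : Subgroup G) % 3 = 2 := by
    have := card_modEq_fixed h.hx hxS
    rw [h.card_inf_cen_x S.isPGroup' hSz hzS] at this
    exact this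
  have hD3 : Nat.card D % 3 = 1 := by omega
  -- `c` acts without fixed points on `D`
  have hfpf : ∀ d ∈ D, Commute d c → d = 1 := by
    have hle : D ⊓ Cen c ≤ Cen c := inf_le_right
    have h2 := h.two_card_le hco (hDp.to_le inf_le_left) hle
    have hmod : Nat.card (D ⊓ Cen c : Subgroup G) % 3 = 1 := by
      have := card_modEq_fixed hco hcD
      rw [Nat.ModEq, hD3] at this
      exact this.symm
    have h1 : Nat.card (D ⊓ Cen c : Subgroup G) = 1 := by
      have := Nat.card_pos (α := (D ⊓ Cen c : Subgroup G))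
      omega
    intro d hd hdc
    have := Subgroup.card_eq_one.1 h1 ▸ (show d ∈ D ⊓ Cen c from ⟨hd, mem_cen.2 hdc⟩)
    exact mem_bot.1 this
  have hcl := comm_central hco hDp hcD hfpf
  -- membership of `D2`
  have hD2x : ∀ {a : G}, a ∈ D2 → x⁻¹ * a * x ∈ D := by
    intro a ha
    refine ⟨?_, mem_cen.2 ?_⟩
    · have := (mem_normalizer_iff.1 (inv_mem hxS) a).1 ha.1
      rwa [inv_inv] at this
    · have := (mem_cen.1 ha.2).map (MulAut.conj x⁻¹)
      simp only [MulAut.conj_apply, inv_inv] at this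
      rwa [hu2, show x⁻¹ * (x * u * x⁻¹) * x = u by group] at this
  have hcl2 : ∀ a ∈ D2, ∀ b ∈ D2, ∀ e ∈ D2, Commute (cm a b) e := by
    intro a ha b hb e he
    have := (hcl _ (hD2x ha) _ (hD2x hb) _ (hD2x he)).map (MulAut.conj x)
    simp only [MulAut.conj_apply] at this
    rw [show x * cm (x⁻¹ * a * x) (x⁻¹ * b * x) * x⁻¹ = cm a b by simp only [cm]; group,
      show x * (x⁻¹ * e * x) * x⁻¹ = e by group] at this
    exact this
  -- `D ≠ D2`
  obtain ⟨q, hqD2, hqD⟩ : ∃ q ∈ D2, q ∉ D := by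
    by_contra hc
    push Not at hc
    have hle : D2 ≤ D := hc
    have hxD : x ∈ normalizer (D : Set G) := by
      have e : D2 = D := by
        refine Subgroup.eq_of_le_of_card_ge hle ?_
        have e1 : Nat.card (S : Subgroup G) = 2 * Nat.card D2 := by
          rw [← card_relIndex (inf_le_left : D2 ≤ (S : Subgroup G)), hidx2, mul_comm]
        omega
      have key : ∀ d ∈ D, x * d * x⁻¹ ∈ D := by
        intro d hd
        rw [← e]
        refine ⟨(mem_normalizer_iff.1 hxS d).1 hd.1, mem_cen.2 ?_⟩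
        have := (mem_cen.1 hd.2).map (MulAut.conj x)
        simpa only [MulAut.conj_apply] using this
      refine mem_normalizer_iff.2 fun d => ⟨key d, fun hd => ?_⟩
      have := hD2x (a := x * d * x⁻¹) (e ▸ hd)
      rwa [show x⁻¹ * (x * d * x⁻¹) * x = d by group] at this
    have := card_modEq_fixed h.hx hxD
    rw [h.card_inf_cen_x hDp (hDS.trans hSz)
      ⟨hzS, mem_cen.2 (mem_cen.1 (hSz g.mem)).symm⟩] at this
    rw [Nat.ModEq, hD3] at this
    omega
  -- `S` is generated by `D` and `q`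
  have hgen : ∀ w : G, (∀ d ∈ D, Commute d w) → Commute q w → ∀ s ∈ (S : Subgroup G), s * w = w * s := by
    intro w hwD hqw s hs
    by_cases hsD : s ∈ D
    · exact hwD s hsD
    · have hmem : s * q ∈ D := by
        have := (Subgroup.mul_mem_iff_of_index_two (show (D.subgroupOf (S : Subgroup G)).index = 2 from hidx)
          (a := (⟨s, hs⟩ : (S : Subgroup G))) (b := ⟨q, hqD2.1⟩)).2
            (iff_of_false (by simpa [mem_subgroupOf] using hsD) (by simpa [mem_subgroupOf] using hqD))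
        simpa [mem_subgroupOf] using this
      have := (hwD _ hmem).mul_left hqw.inv_left
      rw [mul_inv_cancel_right] at this
      exact this
  -- commutators of `I = D ⊓ D2` lie in `⟨z⟩`
  set I := D ⊓ D2 with hI
  have hIcm : ∀ a ∈ I, ∀ b ∈ I, cm a b = 1 ∨ cm a b = z := by
    intro a ha b hb
    refine h.central_le S hSz hxS hsmall ?_ (hgen _ (fun d hd => (hcl a ha.1 b hb.1 d hd).symm)
      (hcl2 a ha.2 b hb.2 q hqD2).symm)
    exact mul_mem (mul_mem (mul_mem ha.1.1 hb.1.1) (inv_mem ha.1.1)) (inv_mem hb.1.1)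
  -- conjugation by `c`
  have hc3 : c ^ 3 = 1 := hco ▸ pow_orderOf_eq_one c
  have hcc : ∀ a : G, c * (c * (c * a * c⁻¹) * c⁻¹) * c⁻¹ = a := fun a => by
    calc c * (c * (c * a * c⁻¹) * c⁻¹) * c⁻¹ = c ^ 3 * a * (c ^ 3)⁻¹ := by
          simp only [pow_succ, pow_zero, one_mul]; group
      _ = a := by rw [hc3]; group
  have hcmem : ∀ a ∈ D, c * a * c⁻¹ ∈ D := fun a ha => (mem_normalizer_iff.1 hcD a).1 ha
  have hnorm : ∀ a ∈ D, a * (c * a * c⁻¹) * (c * (c * a * c⁻¹) * c⁻¹) = 1 := by
    intro a ha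
    set w := a * (c * a * c⁻¹) * (c * (c * a * c⁻¹) * c⁻¹) with hw
    have hinj : Function.Injective (fun t : D =>
        (⟨(t : G)⁻¹ * (c * t * c⁻¹), mul_mem (inv_mem t.2) (hcmem _ t.2)⟩ : D)) := by
      intro p r e
      have e' : (p : G)⁻¹ * (c * p * c⁻¹) = (r : G)⁻¹ * (c * r * c⁻¹) := congrArg Subtype.val e
      have hcomm : Commute ((r : G) * (p : G)⁻¹) c := by
        show (r : G) * (p : G)⁻¹ * c = c * ((r : G) * (p : G)⁻¹)
        calc (r : G) * (p : G)⁻¹ * c = (r : G) * ((p : G)⁻¹ * (c * p * c⁻¹)) * c * (p : G)⁻¹ := by group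
          _ = c * ((r : G) * (p : G)⁻¹) := by rw [e']; group
      exact Subtype.ext (mul_inv_eq_one.1 (hfpf _ (mul_mem r.2 (inv_mem p.2)) hcomm)).symm
    obtain ⟨t, ht⟩ := Finite.surjective_of_injective hinj ⟨a, ha⟩
    have ht' : (t : G)⁻¹ * (c * t * c⁻¹) = a := congrArg Subtype.val ht
    rw [hw, ← ht']
    calc (t : G)⁻¹ * (c * t * c⁻¹) * (c * ((t : G)⁻¹ * (c * t * c⁻¹)) * c⁻¹) *
          (c * (c * ((t : G)⁻¹ * (c * t * c⁻¹)) * c⁻¹) * c⁻¹)
        = (t : G)⁻¹ * (c * (c * (c * t * c⁻¹) * c⁻¹) * c⁻¹) := by group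
      _ = 1 := by rw [hcc, inv_mul_cancel]
  have hmulR : ∀ a ∈ D, ∀ p ∈ D, ∀ r ∈ D, cm a (p * r) = cm a p * cm a r := by
    intro a ha p hp r hr
    calc cm a (p * r) = (a * p * a⁻¹) * (cm a r * p⁻¹) := by simp only [cm]; group
      _ = (a * p * a⁻¹) * (p⁻¹ * cm a r) := by rw [((hcl a ha r hr p hp).inv_right).eq]
      _ = cm a p * cm a r := by simp only [cm]; group
  have hmulL : ∀ a ∈ D, ∀ b ∈ D, ∀ p ∈ D, cm (a * b) p = cm a p * cm b p := by
    intro a ha b hb p hp
    calc cm (a * b) p = (a * cm b p) * (p * a⁻¹ * p⁻¹) := by simp only [cm]; group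
      _ = cm b p * cm a p := by rw [← (hcl b hb p hp a ha).eq]; simp only [cm]; group
      _ = cm a p * cm b p :=
          (hcl b hb p hp _ (mul_mem (mul_mem (mul_mem ha hp) (inv_mem ha)) (inv_mem hp))).eq
  have huz1 : u * z ≠ 1 := fun e => g.ne (by
    rw [eq_inv_of_mul_eq_one_left e, h.z_inv])
  -- `X = I ∩ cI ∩ c²I`
  let X : Subgroup G :=
    I ⊓ I.comap (MulAut.conj c).toMonoidHom ⊓ I.comap ((MulAut.conj c).toMonoidHom.comp (MulAut.conj c).toMonoidHom)
  have hXmem : ∀ {a : G}, a ∈ X ↔ a ∈ I ∧ c * a * c⁻¹ ∈ I ∧ c * (c * a * c⁻¹) * c⁻¹ ∈ I := by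
    intro a
    simp [X, mem_inf, and_assoc]
  have hXc : ∀ a ∈ X, c * a * c⁻¹ ∈ X := by
    intro a ha
    obtain ⟨h1, h2, h3⟩ := hXmem.1 ha
    exact hXmem.2 ⟨h2, h3, by rw [hcc]; exact h1⟩
  have hXI : ∀ a ∈ X, ∀ b ∈ I, cm a b = 1 := by
    intro a ha b hb
    set a1 := c * a * c⁻¹ with ha1
    set a2 := c * a1 * c⁻¹ with ha2
    obtain ⟨haI, ha1I, ha2I⟩ := hXmem.1 ha
    set b1 := c * b * c⁻¹ with hb1
    set b2 := c * b1 * c⁻¹ with hb2
    have hb1D : b1 ∈ D := hcmem _ hb.1
    have hb2D : b2 ∈ D := hcmem _ hb1D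
    -- `[a, b] [a, b1] [a, b2] = 1`
    have hprod : cm a b * cm a b1 * cm a b2 = 1 := by
      rw [← hmulR a haI.1 b hb.1 b1 hb1D, ← hmulR a haI.1 _ (mul_mem hb.1 hb1D) b2 hb2D,
        hb2, hb1, hnorm b hb.1]
      simp [cm]
    -- the two other terms are conjugates of commutators of `I`
    have e1 : cm a b1 = c * cm a2 b * c⁻¹ := by
      have : a = c * a2 * c⁻¹ := by rw [ha2, ha1, hcc]
      conv_lhs => rw [this]
      rw [hb1]; simp only [cm]; group
    have e2 : cm a b2 = c * (c * cm a1 b * c⁻¹) * c⁻¹ := by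
      have : a = c * (c * a1 * c⁻¹) * c⁻¹ := by rw [ha1, hcc]
      conv_lhs => rw [this]
      rw [hb2, hb1]; simp only [cm]; group
    have hsum : cm a b * cm a1 b * cm a2 b = 1 := by
      rw [← hmulL a haI.1 a1 ha1I.1 b hb.1, ← hmulL _ (mul_mem haI.1 ha1I.1) a2 ha2I.1 b hb.1,
        ha2, ha1, hnorm a haI.1]
      simp [cm]
    rw [e1, e2] at hprod
    rcases hIcm a haI b hb with f0 | f0
    · exact f0
    · exfalso
      rw [f0] at hprod hsum
      rcases hIcm a1 ha1I b hb with f1 | f1 <;> rcases hIcm a2 ha2I b hb with f2 | f2 <;>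
        rw [f1, f2] at hprod hsum
      · simp at hsum; exact h.z_ne hsum
      · rw [hcz, mul_one, mul_inv_cancel, mul_one, mul_inv_cancel, mul_one] at hprod
        exact g.ne ((eq_inv_of_mul_eq_one_right hprod).trans h.z_inv)
      · rw [mul_one, mul_inv_cancel, mul_one, hcz, hcu] at hprod
        have : u = 1 := by
          calc u = (z * z) * u := by rw [h.z_sq, one_mul]
            _ = z * (u * z) := by rw [mul_assoc, (mem_cen.1 (hSz g.mem)).eq]
            _ = 1 := hprod
        exact g.ne_one this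
      · rw [h.z_sq, one_mul] at hsum
        exact h.z_ne hsum
  -- `cIc⁻¹ ≠ I` and `X` is central in `D`
  obtain ⟨b0, hb0, hb0c⟩ : ∃ b ∈ I, c * b * c⁻¹ ∉ I := by
    by_contra hc
    push Not at hc
    have hcI : c ∈ normalizer (I : Set G) := by
      refine mem_normalizer_iff.2 fun a => ⟨hc a, fun ha => ?_⟩
      have := hc _ (hc _ ha)
      rwa [hcc] at this
    have hIfix : Nat.card (I ⊓ Cen c : Subgroup G) = 1 := by
      rw [Subgroup.card_eq_one]
      exact eq_bot_iff.2 fun d hd => mem_bot.2 (hfpf d hd.1.1 (mem_cen.1 hd.2))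
    have hm := card_modEq_fixed hco hcI
    rw [hIfix, Nat.ModEq] at hm
    have hIidx : I.relIndex D ≤ 2 := by
      rw [hI, inf_comm, inf_relIndex_right, ← hidx2]
      exact relIndex_le_of_le_right hDS (by rw [hidx2]; norm_num)
    have hIne : I.relIndex D ≠ 1 := by
      intro e
      rw [relIndex_eq_one] at e
      have hle : D ≤ D2 := e.trans inf_le_right
      have e1 : Nat.card (S : Subgroup G) = 2 * Nat.card D2 := by
        rw [← card_relIndex (inf_le_left : D2 ≤ (S : Subgroup G)), hidx2, mul_comm]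
      exact hqD (Subgroup.eq_of_le_of_card_ge hle (by omega) ▸ hqD2)
    have hc2 : Nat.card I * I.relIndex D = Nat.card D := by
      exact card_relIndex inf_le_left
    have hne0 : I.relIndex D ≠ 0 := by
      intro e
      rw [e, mul_zero] at hc2
      exact absurd hc2.symm Nat.card_pos.ne'
    rw [show I.relIndex D = 2 by omega] at hc2
    omega
  have hIcase : I.relIndex D = 2 := by
    have h1 : I.relIndex D ≤ 2 := by
      rw [hI, inf_comm, inf_relIndex_right, ← hidx2]
      exact relIndex_le_of_le_right hDS (by rw [hidx2]; norm_num)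
    have h2 : I.relIndex D ≠ 1 := by
      intro e
      rw [relIndex_eq_one] at e
      exact hb0c (e (hcmem _ hb0.1))
    have h0 : I.relIndex D ≠ 0 := by
      intro e
      have := card_relIndex (inf_le_left : I ≤ D)
      rw [e, mul_zero] at this
      exact absurd this.symm Nat.card_pos.ne'
    omega
  have hXcen : ∀ a ∈ X, ∀ d ∈ D, Commute a d := by
    intro a ha d hd
    have hI1 : ∀ b ∈ I, Commute a (c * b * c⁻¹) := by
      intro b hb
      have ha' : c * (c * a * c⁻¹) * c⁻¹ ∈ X := hXc _ (hXc _ ha)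
      have := (cm_eq_one_iff.1 (hXI _ ha' b hb)).map (MulAut.conj c)
      simp only [MulAut.conj_apply] at this
      rwa [hcc] at this
    by_cases hdI : d ∈ I
    · exact cm_eq_one_iff.1 (hXI a ha d hdI)
    · have hmem : d * (c * b0 * c⁻¹) ∈ I := by
        have := (Subgroup.mul_mem_iff_of_index_two (show (I.subgroupOf D).index = 2 from hIcase)
          (a := (⟨d, hd⟩ : D)) (b := ⟨_, hcmem _ hb0.1⟩)).2
          (iff_of_false (by simpa [mem_subgroupOf] using hdI) (by simpa [mem_subgroupOf] using hb0c))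
        simpa [mem_subgroupOf] using this
      have := (cm_eq_one_iff.1 (hXI a ha _ hmem)).mul_right (hI1 b0 hb0).inv_right
      rwa [mul_inv_cancel_right] at this
  -- `D` is abelian
  have hXD : X ≤ D := fun a ha => (hXmem.1 ha).1.1
  have hXidx : X.relIndex D ≤ 8 := by
    have e1 : ∀ f : G →* G, (∀ a ∈ D, f a ∈ D) → (I.comap f).relIndex D ≤ 2 := by
      intro f hf
      rw [relIndex_comap, ← hIcase]
      exact relIndex_le_of_le_right (map_le_iff_le_comap.2 hf) (by rw [hIcase]; norm_num)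
    refine (relIndex_inf_le (K := I.comap _)).trans ?_
    refine (Nat.mul_le_mul (relIndex_inf_le.trans (Nat.mul_le_mul hIcase.le
      (e1 _ fun a ha => by simpa using hcmem a ha))) (e1 _ fun a ha => by simpa using hcmem _ (hcmem a ha))).trans ?_
    norm_num
  have hXc3 : Nat.card X % 3 = 1 := by
    have hcX : c ∈ normalizer (X : Set G) := by
      refine mem_normalizer_iff.2 fun a => ⟨hXc a, fun ha => ?_⟩
      have := hXc _ (hXc _ ha)
      rwa [hcc] at this
    have hfix : Nat.card (X ⊓ Cen c : Subgroup G) = 1 := by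
      rw [Subgroup.card_eq_one]
      exact eq_bot_iff.2 fun d hd => mem_bot.2 (hfpf d (hXD hd.1) (mem_cen.1 hd.2))
    have := card_modEq_fixed hco hcX
    rw [hfix] at this
    exact this
  obtain ⟨b, hbD, hbX⟩ : ∃ b ∈ D, b ∉ X := by
    by_contra hc
    push Not at hc
    exact hb0c (hXmem.1 (hc b0 hb0.1)).2.1
  set b1 := c * b * c⁻¹ with hb1
  have hb1D : b1 ∈ D := hcmem _ hbD
  have hbb : Commute b b1 := by
    set b2 := c * b1 * c⁻¹ with hb2
    have hb2D : b2 ∈ D := hcmem _ hb1D
    have hfix : c * cm b b1 * c⁻¹ = cm b b1 := by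
      have e : c * cm b b1 * c⁻¹ = cm b1 b2 := by rw [hb2, hb1]; simp only [cm]; group
      have e2 : b2 = b1⁻¹ * b⁻¹ := by
        have := hnorm b hbD
        rw [← hb1, ← hb2] at this
        rw [← mul_inv_rev]
        exact eq_inv_of_mul_eq_one_right this
      rw [e, e2, hmulR b1 hb1D _ (inv_mem hb1D) _ (inv_mem hbD)]
      have e3 : cm b1 b1⁻¹ = 1 := cm_eq_one_iff.2 (Commute.refl b1).inv_right
      have e4 : cm b1 b⁻¹ = b⁻¹ * cm b b1 * b := by simp only [cm]; group
      rw [e3, one_mul, e4, mul_assoc, (hcl b hbD b1 hb1D b hbD).eq, inv_mul_cancel_left]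
    refine cm_eq_one_iff.1 (hfpf _ (mul_mem (mul_mem (mul_mem hbD hb1D) (inv_mem hbD)) (inv_mem hb1D)) ?_)
    exact (mul_inv_eq_iff_eq_mul.1 hfix).symm
  let Y : Subgroup G := closure ((X : Set G) ∪ {b, b1})
  have hYD : Y ≤ D := (closure_le _).2 (Set.union_subset hXD (by rintro w (rfl | rfl) <;> assumption))
  have hYc : IsMulCommutative Y := by
    refine isMulCommutative_closure ?_
    intro p hp r hr
    have hset : ∀ w ∈ (X : Set G) ∪ {b, b1}, w ∈ D := by
      rintro w (hw | rfl | rfl)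
      exacts [hXD hw, hbD, hb1D]
    rcases hp with hp | hp
    · exact hXcen p hp r (hset r hr)
    rcases hr with hr | hr
    · exact (hXcen r hr p (hset p (Or.inr hp))).symm
    rcases hp with rfl | rfl <;> rcases hr with rfl | rfl
    exacts [rfl, hbb, hbb.symm, rfl]
  have hYD' : Y = D := by
    have hcY : c ∈ normalizer (Y : Set G) := by
      have key : ∀ w ∈ Y, c * w * c⁻¹ ∈ Y := by
        intro w hw
        induction hw using closure_induction with
        | mem w hw =>
          rcases hw with hw | rfl | rfl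
          · exact subset_closure (Or.inl (hXc w hw))
          · exact subset_closure (Or.inr (Or.inr rfl))
          · have hn := hnorm b hbD
            rw [← hb1] at hn
            rw [eq_inv_of_mul_eq_one_right hn]
            exact inv_mem (mul_mem (subset_closure (Or.inr (Or.inl rfl))) (subset_closure (Or.inr (Or.inr rfl))))
        | one => simpa using one_mem Y
        | mul p r _ _ hp hr => rw [show c * (p * r) * c⁻¹ = c * p * c⁻¹ * (c * r * c⁻¹) by group]; exact mul_mem hp hr
        | inv p _ hp => rw [show c * p⁻¹ * c⁻¹ = (c * p * c⁻¹)⁻¹ by group]; exact inv_mem hp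
      refine mem_normalizer_iff.2 fun a => ⟨key a, fun ha => ?_⟩
      have := key _ (key _ ha)
      rwa [hcc] at this
    have hfix : Nat.card (Y ⊓ Cen c : Subgroup G) = 1 := by
      rw [Subgroup.card_eq_one]
      exact eq_bot_iff.2 fun d hd => mem_bot.2 (hfpf d (hYD hd.1) (mem_cen.1 hd.2))
    have hY3 := card_modEq_fixed hco hcY
    rw [hfix, Nat.ModEq] at hY3
    have hXY : X ≤ Y := fun w hw => subset_closure (Or.inl hw)
    refine Subgroup.eq_of_le_of_card_ge hYD (le_of_eq ?_)
    obtain ⟨kD, hkD⟩ := hDp.exists_card_eq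
    obtain ⟨kY, hkY⟩ := (hDp.to_le hYD).exists_card_eq
    obtain ⟨kX, hkX⟩ := (hDp.to_le hXD).exists_card_eq
    have hXlt : Nat.card X < Nat.card Y := by
      refine lt_of_le_of_ne (card_le_of_le hXY) fun e => hbX ?_
      rw [Subgroup.eq_of_le_of_card_ge hXY e.ge]
      exact subset_closure (Or.inr (Or.inl rfl))
    have hYd := card_le_of_le hYD
    have hD8 : Nat.card D ≤ 8 * Nat.card X := by
      rw [← card_relIndex hXD, mul_comm]
      exact Nat.mul_le_mul_right _ hXidx
    rw [hkD, hkY] at hYd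
    rw [hkX, hkY] at hXlt
    rw [hkD, hkX] at hD8
    have l1 : kX < kY := (Nat.pow_lt_pow_iff_right (by norm_num)).1 hXlt
    have l2 : kY ≤ kD := (Nat.pow_le_pow_iff_right (by norm_num)).1 hYd
    have l3 : kD ≤ kX + 3 := (Nat.pow_le_pow_iff_right (by norm_num : 1 < 2)).1 (by
      calc 2 ^ kD ≤ 8 * 2 ^ kX := hD8
        _ = 2 ^ (kX + 3) := by ring)
    rw [hkD] at hD3; rw [hkY] at hY3; rw [hkX] at hXc3
    have par : ∀ k : ℕ, 2 ^ k % 3 = 1 → k % 2 = 0 := by
      intro k hk
      by_contra hodd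
      obtain ⟨j, rfl⟩ : Odd k := Nat.odd_iff.2 (by omega)
      rw [pow_succ, pow_mul, Nat.mul_mod, Nat.pow_mod] at hk
      norm_num at hk
    have := par _ hD3; have := par _ (by simpa using hY3); have := par _ hXc3
    rw [hkY, hkD, show kY = kD by omega]
  -- so `u` is central in `S`
  have hDc : ∀ a ∈ D, ∀ d ∈ D, Commute a d := by
    intro a ha d hd
    rw [← hYD'] at ha hd
    exact congrArg Subtype.val (hYc.is_comm.comm (⟨a, ha⟩ : Y) ⟨d, hd⟩)
  have hcq : Commute q u := by
    have hu' : x⁻¹ * u * x ∈ D := hD2x ⟨g.mem, mem_cen.2 (h.good_commute S.isPGroup' hSz hxS g)⟩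
    have := (hDc _ (hD2x hqD2) _ hu').map (MulAut.conj x)
    simp only [MulAut.conj_apply] at this
    rwa [show x * (x⁻¹ * q * x) * x⁻¹ = q by group, show x * (x⁻¹ * u * x) * x⁻¹ = u by group] at this
  rcases hsmall u ⟨g.mem, hgen u (fun d hd => mem_cen.1 hd.2) hcq, g.sq⟩ with e | e
  · exact g.ne_one e
  · exact g.ne e

/-- **Lemma T.** -/
theorem sylow_norm (hr : ∀ r : ℕ, r.Prime → r ∣ Nat.card (Cen z) → r = 2 ∨ r = 3 ∨ r = 5)
    (hN : Nat.card (Cen z ⊓ normalizer ((S : Subgroup G) : Set G) : Subgroup G) =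
      3 * Nat.card (S : Subgroup G)) :
    Nat.card (S : Subgroup G) = 8 ∧ Cfsg.IsElementaryAbelian 2 (S : Subgroup G) := by
  classical
  have : Fact (Nat.Prime 2) := ⟨Nat.prime_two⟩
  obtain ⟨v, hv, hv1, hvz⟩ := h.exists_zOne S hSz hxS
  set N := normalizer ((S : Subgroup G) : Set G) with hNdef
  set Z1 := zOne (S : Subgroup G) with hZ1
  have hz := h.z_mem_zOne S hSz
  -- the orbit of `z` under `N`
  have horb : Inv59.EightAuto.orb N z = (Z1 : Set G) \ {1} := by
    ext y
    constructor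
    · rintro ⟨n, hn, rfl⟩
      exact ⟨zOne_conj hn hz, fun e => h.z_ne (by simpa using e)⟩
    · rintro ⟨hy, hy1⟩
      have hyo : orderOf y = 2 := orderOf_eq_prime (by rw [pow_two]; exact hy.2.2) hy1
      obtain ⟨k, hk⟩ := h.exists_conj hyo
      have hc : ∀ w ∈ Z1, w ∈ centralizer ((S : Subgroup G) : Set G) := fun w hw =>
        mem_centralizer_iff.2 hw.2.1
      obtain ⟨n, hn, e⟩ := Sylow.conj_eq_normalizer_conj_of_mem_centralizer S z k (hc z hz)
        (by rw [← hk, show k⁻¹ * (k * y * k⁻¹) * k = y by group]; exact hc y hy)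
      refine ⟨n⁻¹, inv_mem hn, ?_⟩
      rw [inv_inv, ← e, ← hk]
      group
  have hcount : (Cen z).relIndex N = Nat.card Z1 - 1 := by
    rw [← Inv59.EightAuto.ncard_orb, horb, Set.ncard_sdiff_singleton_of_mem (one_mem Z1), ← Nat.card_coe_set_eq]
    rfl
  have hcardN : Nat.card N = 3 * Nat.card (S : Subgroup G) * (Nat.card Z1 - 1) := by
    rw [← hcount, ← hN, ← inf_relIndex_right, ← relIndex_bot_left (Cen z ⊓ N),
      relIndex_mul_relIndex _ _ _ bot_le inf_le_right, relIndex_bot_left]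
  obtain ⟨n, hn⟩ := (S.isPGroup'.to_le (zOne_le _) : IsPGroup 2 Z1).exists_card_eq
  have hn2 : 2 ≤ n := by
    by_contra hc
    have hs : ({1, z, v} : Set G) ⊆ Z1 := by
      rintro w (rfl | rfl | rfl)
      exacts [one_mem _, hz, hv]
    have h3 : ({1, z, v} : Set G).ncard = 3 :=
      Set.ncard_eq_three.2 ⟨1, z, v, Ne.symm h.z_ne, Ne.symm hv1, Ne.symm hvz, rfl⟩
    have := Set.ncard_le_ncard hs (Set.toFinite _)
    rw [h3, ← Nat.card_coe_set_eq] at this
    have e : Nat.card ((Z1 : Set G)) = Nat.card Z1 := rfl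
    have : 2 ^ n ≤ 2 ^ 1 := Nat.pow_le_pow_right (by norm_num) (by omega)
    omega
  have hmod : 2 ^ n % 3 = 2 := by
    have hxZ : x ∈ normalizer (Z1 : Set G) := mem_normalizer_iff.2 fun y =>
      ⟨fun hy => zOne_conj hxS hy, fun hy => by
        have := zOne_conj (inv_mem hxS) hy
        rwa [show x⁻¹ * (x * y * x⁻¹) * x⁻¹⁻¹ = y by group] at this⟩
    have := card_modEq_fixed h.hx hxZ
    rwa [h.card_inf_cen_x (S.isPGroup'.to_le (zOne_le _)) ((zOne_le _).trans hSz) hz, hn] at this
  obtain ⟨j, hj⟩ : Odd n := by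
    by_contra he
    obtain ⟨j, rfl⟩ := Nat.not_odd_iff_even.1 he
    rw [← two_mul, pow_mul, Nat.pow_mod] at hmod
    norm_num at hmod
  set m := 2 ^ n - 1 with hm
  have hm8 : 8 ≤ 2 ^ n :=
    le_trans (by norm_num) (Nat.pow_le_pow_right (by norm_num : 0 < 2) (show 3 ≤ n by omega))
  have hm5 : ¬ 5 ∣ m := by
    intro h5
    have e : 2 ^ n % 5 = 1 := by omega
    rw [hj, pow_succ, pow_mul, Nat.mul_mod, Nat.pow_mod] at e
    norm_num at e
    have : ∀ j : ℕ, 4 ^ j % 5 = 1 ∨ 4 ^ j % 5 = 4 := by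
      intro j
      induction j with
      | zero => left; rfl
      | succ j ih => rw [pow_succ, Nat.mul_mod]; rcases ih with e | e <;> rw [e] <;> norm_num
    rcases this j with e' | e' <;> omega
  have hm3 : ¬ 3 ∣ m := by omega
  have hm2 : ¬ 2 ∣ m := by
    have : 2 ∣ 2 ^ n := dvd_pow_self 2 (by omega)
    omega
  -- a normal subgroup of index three of `N`
  let SN : Subgroup N := (S : Subgroup G).subgroupOf N
  have : SN.Normal := Subgroup.normal_subgroupOf_of_le_normalizer le_rfl
  have hSN : Nat.card SN = Nat.card (S : Subgroup G) :=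
    Nat.card_congr (subgroupOfEquivOfLe le_normalizer).toEquiv
  have hQ : Nat.card (N ⧸ SN) = 3 * m := by
    have := card_eq_card_quotient_mul_card_subgroup SN
    rw [hcardN, hSN, hn] at this
    have hpos : 0 < Nat.card (S : Subgroup G) := Nat.card_pos
    exact Nat.eq_of_mul_eq_mul_right hpos (by rw [← this]; ring)
  have hmin : (Nat.card (N ⧸ SN)).minFac = 3 := by
    rw [hQ]
    refine le_antisymm (Nat.minFac_le_of_dvd (by norm_num) (dvd_mul_right 3 m)) ?_
    have hp := Nat.minFac_prime (n := 3 * m) (by omega)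
    have hne : (3 * m).minFac ≠ 2 := by
      intro e
      have := Nat.minFac_dvd (3 * m)
      rw [e] at this
      omega
    have := hp.two_le
    omega
  have : Fact (Nat.Prime 3) := ⟨Nat.prime_three⟩
  let P : Sylow 3 (N ⧸ SN) := default
  have hP : IsCyclic P := by
    refine isCyclic_of_prime_card (p := 3) ?_
    rw [P.card_eq_multiplicity, hQ, Nat.factorization_mul (by norm_num) (by omega)]
    simp [Nat.prime_three.factorization_self, Nat.factorization_eq_zero_of_not_dvd hm3]
  set Mb := (MonoidHom.transferSylow P (hP.normalizer_le_centralizer hmin)).ker with hMb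
  have hMbc : Mb.IsComplement' P := IsCyclic.isComplement' hmin hP
  have hMidx : Mb.index = 3 := by
    rw [hMbc.symm.index_eq_card]
    rw [P.card_eq_multiplicity, hQ, Nat.factorization_mul (by norm_num) (by omega)]
    simp [Nat.prime_three.factorization_self, Nat.factorization_eq_zero_of_not_dvd hm3]
  let M : Subgroup G := (Mb.comap (QuotientGroup.mk' SN)).map N.subtype
  have hMN : M ≤ N := map_subtype_le _
  have hMc : Nat.card M = Nat.card (S : Subgroup G) * m := by
    have e := (Mb.comap (QuotientGroup.mk' SN)).card_mul_index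
    rw [index_comap_of_surjective _ (QuotientGroup.mk'_surjective _), hMidx, hcardN, hn] at e
    rw [card_map_of_injective N.subtype_injective]
    refine Nat.eq_of_mul_eq_mul_right (show 0 < 3 by norm_num) ?_
    rw [e]; ring
  have hxM : x ∈ normalizer (M : Set G) := by
    have hx' : (⟨x, hxS⟩ : N) ∈ normalizer ((Mb.comap (QuotientGroup.mk' SN)) : Set N) := by
      rw [normalizer_eq_top]; exact mem_top _
    exact le_normalizer_map N.subtype (mem_map_of_mem N.subtype hx')
  have h3M : ¬ 3 ∣ Nat.card M := by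
    rw [hMc]
    intro h3
    rcases Nat.prime_three.dvd_mul.1 h3 with e | e
    · obtain ⟨k, hk⟩ := S.isPGroup'.exists_card_eq
      rw [hk] at e
      have := Nat.prime_three.dvd_of_dvd_pow e
      norm_num at this
    · exact hm3 e
  set r := m.minFac with hr'
  have hrp : r.Prime := Nat.minFac_prime (by omega)
  have hrm : r ∣ m := Nat.minFac_dvd m
  have hr2 : r ≠ 2 := fun e => hm2 (e ▸ hrm)
  have hr3 : r ≠ 3 := fun e => hm3 (e ▸ hrm)
  have hr5 : r ≠ 5 := fun e => hm5 (e ▸ hrm)
  obtain ⟨R, hRM, hRp, hR1, hxR⟩ :=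
    exists_inv_sylow h.hx hxM h3M hrp (hrm.trans (by rw [hMc]; exact dvd_mul_left _ _))
  have h8 : Nat.card (S : Subgroup G) = 8 := by
    refine h.card_eight S.isPGroup' hSz hz.1 hxS hrp hr2 hr3 hRp hR1 hxR (hRM.trans hMN) ?_
    intro y hy hy1 s hs hc
    by_contra hs1
    rcases hr r hrp (h.dvd_of_commute hrp hRp hy hy1 S.isPGroup' hs hs1 hc) with e | e | e
    · exact hr2 e
    · exact hr3 e
    · exact hr5 e
  refine ⟨h8, ?_⟩
  have hle : Nat.card Z1 ≤ 8 := h8 ▸ card_le_of_le (zOne_le _)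
  have hS : (S : Subgroup G) = Z1 :=
    (Subgroup.eq_of_le_of_card_ge (zOne_le _) (by rw [h8, hn]; exact hm8)).symm
  refine ⟨⟨⟨fun a b => Subtype.ext ?_⟩⟩, fun a ha => ?_⟩
  · exact ((hS.le b.2).2.1 a a.2)
  · rw [pow_two]; exact (hS.le ha).2.2

end Ctx

end Cfsg.Agent.Lib.SelfCentSix9
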