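import Cfsg.Agent.Lib.SelfCentSix9.ShapeA
import Cfsg.Agent.Lib.SelfCentSix9.SylowNorm
import Cfsg.Agent.Lib.SelfCentSix9.Core
import Cfsg.Agent.S3189

/-!
# Index three is impossible

Then `C(z) = Q ⋊ ⟨x⟩` with `Q` a Sylow 2-subgroup of the group, so `Q` is elementary abelian of order
eight and its automizer would have order seven, although it contains the image of `x`.
-/

set_option autoImplicit false

namespace Cfsg.Agent.Lib.SelfCentSix9

open Subgroup

universe u

variable {G : Type u} [Group G] [Finite G] {z x : G}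

/-- An odd-order subgroup of `C(z)` normalised by `C(z)` lies in its core. -/
theorem le_cr {K : Subgroup G} (hK : ¬ 2 ∣ Nat.card K) (hle : K ≤ Cen z)
    (hn : Cen z ≤ normalizer (K : Set G)) : K ≤ cr z := by
  have : Fact (Nat.Prime 2) := ⟨Nat.prime_two⟩
  have : (K.subgroupOf (Cen z)).Normal := normal_subgroupOf_of_le_normalizer hn
  have h1 : K.subgroupOf (Cen z) ≤ Cfsg.pPrimeCore 2 (Cen z) :=
    Cores.le_pPrimeCore_of_not_dvd (by rwa [Nat.card_congr (subgroupOfEquivOfLe hle).toEquiv])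
  intro k hk
  exact ⟨⟨k, hle hk⟩, h1 (mem_subgroupOf.2 hk), rfl⟩

omit [Finite G] in
/-- A Sylow 2-subgroup of `C(z)` normalised by `x` has a good involution. -/
theorem Ctx.exists_good_sylow [Finite G] (h : Ctx G z x) (S : Sylow 2 G)
    (hSz : (S : Subgroup G) ≤ Cen z) (hxS : x ∈ normalizer ((S : Subgroup G) : Set G)) :
    ∃ u, Good z (S : Subgroup G) u := by
  have hzS : z ∈ (S : Subgroup G) := (h.z_mem_zOne S hSz).1
  obtain ⟨a, haS, hao, haz⟩ := h.exists_second_invol S z
  rcases h.exists_good S.isPGroup' hzS hSz hxS with h2 | ⟨-, h8⟩ | hg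
  · exfalso
    have hle : zpowers z ≤ (S : Subgroup G) := zpowers_le.2 hzS
    have e := Subgroup.eq_of_le_of_card_ge hle (by rw [h2, Nat.card_zpowers, h.hz])
    rcases h.cases_zpowers_z (e.ge haS) with e' | e'
    · simp [e'] at hao
    · exact haz e'
  · exact absurd (h8 a haS hao) haz
  · exact hg

/-- Index three is impossible. -/
theorem Ctx.not_index_three (h : Ctx G z x) {Q K : Subgroup G} (D : DataA z Q K 3) : False := by
  have : Fact (Nat.Prime 2) := ⟨Nat.prime_two⟩
  have := h.simple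
  obtain ⟨j, hj⟩ := D.two.exists_card_eq
  have hidx : ¬ 2 ∣ Q.relIndex (Cen z) := by
    have e := card_relIndex D.Q_le
    rw [D.card] at e
    have e' : Q.relIndex (Cen z) = 3 * Nat.card K :=
      Nat.eq_of_mul_eq_mul_left (Nat.card_pos (α := Q)) (by rw [e]; ring)
    rw [e']
    intro h2
    rcases Nat.prime_two.dvd_mul.1 h2 with e2 | e2
    · norm_num at e2
    · exact D.odd e2
  obtain ⟨S, hS⟩ := h.exists_sylow_eq D.two D.Q_le hidx
  have hSz : (S : Subgroup G) ≤ Cen z := hS ▸ D.Q_le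
  have hxS : x ∈ normalizer ((S : Subgroup G) : Set G) := by rw [hS]; exact D.Q_norm h.x_mem
  obtain ⟨u, g⟩ := h.exists_good_sylow S hSz hxS
  have hcr : cr z = ⊥ := h.core_eq_bot D.solvable S hSz (Q := (S : Subgroup G)) le_rfl
    (hS ▸ D.Q_norm) fun v hv _ => h.exists_good_commute S.isPGroup' hSz hxS g hv
  have hK : Nat.card K = 1 := by
    rw [Subgroup.card_eq_one, eq_bot_iff, ← hcr]
    exact le_cr D.odd D.K_le D.K_norm
  have hH : Nat.card (Cen z) = 3 * Nat.card Q := by rw [D.card, hK, mul_one]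
  obtain ⟨h8, hel⟩ := h.sylow_norm S hSz hxS
    (fun r hr hd => by
      rw [hH, hj] at hd
      rcases hr.dvd_mul.1 hd with e | e
      · exact Or.inr (Or.inl ((Nat.prime_dvd_prime_iff_eq hr Nat.prime_three).1 e))
      · exact Or.inl ((Nat.prime_dvd_prime_iff_eq hr Nat.prime_two).1 (hr.dvd_of_dvd_pow e)))
    (by rw [inf_eq_left.2 (by rw [hS]; exact D.Q_norm), hH, hS])
  have h7 := Cfsg.Agent.S3189.result h.noncomm S hel h8 fun v hv => h.solvable_cen D.solvable hv
  set N := normalizer ((S : Subgroup G) : Set G) with hN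
  set C := centralizer ((S : Subgroup G) : Set G) with hC
  have hCn : (C.subgroupOf N).Normal := by
    rw [show C.subgroupOf N = (S : Subgroup G).normalizerMonoidHom.ker from
      (Subgroup.normalizerMonoidHom_ker _).symm]
    infer_instance
  have hx3 : orderOf ((⟨x, hxS⟩ : N) : N ⧸ C.subgroupOf N) = 3 := by
    have : Fact (Nat.Prime 3) := ⟨Nat.prime_three⟩
    refine orderOf_eq_prime ?_ fun e => ?_
    · rw [← QuotientGroup.mk_pow, show (⟨x, hxS⟩ : N) ^ 3 = 1 from Subtype.ext h.x_cube,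
        QuotientGroup.mk_one]
    · have hxC : x ∈ C := mem_subgroupOf.1 ((QuotientGroup.eq_one_iff _).1 e)
      rcases h.eq_of_commute_x S.isPGroup' hSz g.mem (mem_centralizer_iff.1 hxC u g.mem) with e' | e'
      · exact g.ne_one e'
      · exact g.ne e'
  have hd := _root_.orderOf_dvd_natCard ((⟨x, hxS⟩ : N) : N ⧸ C.subgroupOf N)
  rw [hx3, ← index_eq_card] at hd
  change 3 ∣ C.relIndex N at hd
  rw [h7] at hd
  norm_num at hd

end Cfsg.Agent.Lib.SelfCentSix9
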