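import Cfsg.Agent.Lib.SelfCentSix9.SylowNorm
import Cfsg.Agent.Lib.Spectrum.SelfThree.Local
import Cfsg.Agent.S0494
import Cfsg.Agent.S1644

/-!
# The shape with a quotient `A₅`: the first Janko group

`x` normalises a Sylow 2-subgroup `S` of `C(z)`, so `S` is elementary abelian of order eight; hence
`C(z) ≅ 2 × A₅` and the group is `J₁`.
-/

set_option autoImplicit false

namespace Cfsg.Agent.Lib.SelfCentSix9

open Subgroup
open scoped commutatorElement
open Cfsg.Agent.Lib.Spectrum.SelfThree

universe u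

variable {G : Type u} [Group G] [Finite G] {z x : G}

/-- The normaliser of a subgroup of order four invariant under a self-centralising element of order three,
in a simple group of order sixty, has order twelve. -/
theorem card_normalizer_four {Q : Type u} [Group Q] [Finite Q] [IsSimpleGroup Q] (hQ : Nat.card Q = 60)
    {a : Q} (ha : SC a) {Y : Subgroup Q} (hY : Inv a Y) (h4 : Nat.card Y = 4) :
    Nat.card (normalizer (Y : Set Q)) = 12 := by
  set N := normalizer (Y : Set Q) with hN
  have h1 : 4 ∣ Nat.card N := h4 ▸ card_dvd_of_le le_normalizer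
  have h3 : 3 ∣ Nat.card N := ha.ord ▸ orderOf_dvd_natCard N hY.2
  have hd : Nat.card N ∣ 60 := hQ ▸ N.card_subgroup_dvd_card
  have hne : Nat.card N ≠ 60 := by
    intro e
    have htop : N = ⊤ := eq_top_of_card_eq N (by rw [e, hQ])
    have hn : Y.Normal := normalizer_eq_top_iff.1 htop
    rcases hn.eq_bot_or_eq_top with e' | e'
    · rw [e', card_bot] at h4; omega
    · rw [e', card_top, hQ] at h4; omega
  have h12 : 12 ∣ Nat.card N := Nat.Coprime.mul_dvd_of_dvd_of_dvd (by norm_num : Nat.Coprime 4 3) h1 h3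
  have hle : Nat.card N ≤ 60 := Nat.le_of_dvd (by norm_num) hd
  obtain ⟨k, hk⟩ := h12
  rw [hk] at hd hne hle ⊢
  have hk5 : k ≤ 5 := by omega
  interval_cases k <;> omega

/-- Shape (B) gives the first Janko group. -/
theorem Ctx.iso_J1 (h : Ctx G z x) {N₀ : Subgroup (Cen z ⧸ zSub z)} (hN₀ : N₀.Normal)
    (hexp : ∀ n ∈ N₀, n ^ 2 = 1) (hc : Nat.card ((Cen z ⧸ zSub z) ⧸ N₀) = 60)
    (hs : IsSimpleGroup ((Cen z ⧸ zSub z) ⧸ N₀)) : Cfsg.Spor.IsoJ1 G := by
  classical
  have : Fact (Nat.Prime 2) := ⟨Nat.prime_two⟩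
  have := h.simple
  have hp0 : IsPGroup 2 N₀ := fun n => ⟨1, Subtype.ext (by simpa using hexp n n.2)⟩
  obtain ⟨a, ha⟩ := hp0.exists_card_eq
  have h30 : ¬ 3 ∣ Nat.card N₀ := fun h3 => by
    rw [ha] at h3
    have := Nat.prime_three.dvd_of_dvd_pow h3
    norm_num at this
  set φ : Cen z →* (Cen z ⧸ zSub z) ⧸ N₀ :=
    (QuotientGroup.mk' N₀).comp (QuotientGroup.mk' (zSub z)) with hφ
  have hφsurj : Function.Surjective φ :=
    (QuotientGroup.mk'_surjective N₀).comp (QuotientGroup.mk'_surjective (zSub z))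
  set xb := φ ⟨x, h.x_mem⟩ with hxb
  have hsc : SC xb := h.sc.quotient (K := N₀) h30
  obtain ⟨Y, hYinv, hY4⟩ := exists_inv_four hc hsc
  set P := Y.comap φ with hP
  have hH : Nat.card (Cen z) = 2 ^ (a + 1) * 60 := by
    rw [card_eq_card_quotient_mul_card_subgroup (zSub z), card_eq_card_quotient_mul_card_subgroup N₀,
      hc, ha, h.card_zSub]
    ring
  have hYidx : Y.index = 15 := by
    have := Y.card_mul_index
    rw [hY4, hc] at this
    omega
  have hPc : Nat.card P = 2 ^ (a + 3) := by
    have := P.card_mul_index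
    rw [hP, index_comap_of_surjective _ hφsurj, hYidx, hH] at this
    refine Nat.eq_of_mul_eq_mul_right (show 0 < 15 by norm_num) ?_
    rw [this]; ring
  have hxP : (⟨x, h.x_mem⟩ : Cen z) ∈ normalizer (P : Set (Cen z)) := by
    refine mem_normalizer_iff.2 fun y => ?_
    simp only [hP, mem_comap, map_mul, map_inv]
    exact mem_normalizer_iff.1 hYinv.2 (φ y)
  set PG := P.map (Cen z).subtype with hPG
  have hPGp : IsPGroup 2 PG := (IsPGroup.of_card hPc).map _
  have hPGle : PG ≤ Cen z := map_subtype_le _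
  have hPGc : Nat.card PG = 2 ^ (a + 3) := by
    rw [hPG, card_map_of_injective (Cen z).subtype_injective, hPc]
  obtain ⟨S, hS⟩ := h.exists_sylow_eq hPGp hPGle (by
    have e := card_relIndex hPGle
    rw [hPGc, hH] at e
    have e' : PG.relIndex (Cen z) = 15 := by
      refine Nat.eq_of_mul_eq_mul_left (show 0 < 2 ^ (a + 3) by positivity) ?_
      rw [e]; ring
    rw [e']; norm_num)
  have hSz : (S : Subgroup G) ≤ Cen z := hS ▸ hPGle
  have hxS : x ∈ normalizer ((S : Subgroup G) : Set G) := by
    rw [hS]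
    exact le_normalizer_map (Cen z).subtype (mem_map_of_mem (Cen z).subtype hxP)
  have hN : Nat.card (Cen z ⊓ normalizer ((S : Subgroup G) : Set G) : Subgroup G) =
      3 * Nat.card (S : Subgroup G) := by
    set M := (normalizer ((S : Subgroup G) : Set G)).subgroupOf (Cen z) with hM
    have hMc : Nat.card (Cen z ⊓ normalizer ((S : Subgroup G) : Set G) : Subgroup G) = Nat.card M := by
      rw [hM, ← Subgroup.inf_subgroupOf_right, inf_comm (normalizer _) (Cen z),
        Nat.card_congr (subgroupOfEquivOfLe (inf_le_left (a := Cen z))).toEquiv]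
    rw [hMc, hS, hPGc]
    have hle : M ≤ (normalizer (Y : Set _)).comap φ := by
      intro m hm
      have hm' : (m : G) ∈ normalizer (PG : Set G) := hS ▸ mem_subgroupOf.1 hm
      refine mem_comap.2 (mem_normalizer_iff.2 fun q => ?_)
      obtain ⟨y, rfl⟩ := hφsurj q
      rw [← map_inv, ← map_mul, ← map_mul]
      have := mem_normalizer_iff.1 hm' (y : G)
      rw [show (m : G) * y * (m : G)⁻¹ = ((m * y * m⁻¹ : Cen z) : G) by simp, hPG] at this
      have e1 : ∀ w : Cen z, (w : G) ∈ P.map (Cen z).subtype ↔ w ∈ P := fun w =>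
        mem_map_iff_mem (f := (Cen z).subtype) (Cen z).subtype_injective (K := P) (x := w)
      exact (e1 y).symm.trans (this.trans (e1 _))
    have hcomap : Nat.card ((normalizer (Y : Set _)).comap φ) = 3 * 2 ^ (a + 3) := by
      have e1 := ((normalizer (Y : Set _)).comap φ).card_mul_index
      have e2 := (normalizer (Y : Set ((Cen z ⧸ zSub z) ⧸ N₀))).card_mul_index
      rw [card_normalizer_four hc hsc hYinv hY4, hc] at e2
      have h5 : (normalizer (Y : Set ((Cen z ⧸ zSub z) ⧸ N₀))).index = 5 := by omega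
      rw [index_comap_of_surjective _ hφsurj, h5, hH] at e1
      refine Nat.eq_of_mul_eq_mul_right (show 0 < 5 by norm_num) ?_
      rw [e1]; ring
    refine le_antisymm ((card_le_of_le hle).trans_eq hcomap) (Nat.le_of_dvd Nat.card_pos ?_)
    refine Nat.Coprime.mul_dvd_of_dvd_of_dvd
      (Nat.prime_three.coprime_iff_not_dvd.2 fun h3 => ?_) ?_ ?_
    · have := Nat.prime_three.dvd_of_dvd_pow h3
      norm_num at this
    · have := orderOf_dvd_natCard M (show (⟨x, h.x_mem⟩ : Cen z) ∈ M from hxS)
      rwa [← Subgroup.orderOf_coe, h.hx] at this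
    · rw [← hPc]
      refine card_dvd_of_le fun p hp => ?_
      rw [hM, mem_subgroupOf, hS]
      exact le_normalizer (mem_map_of_mem (Cen z).subtype hp)
  obtain ⟨h8, hel⟩ := h.sylow_norm S hSz hxS (fun r hr hd => by
    rw [hH] at hd
    rcases hr.dvd_mul.1 hd with e | e
    · exact Or.inl ((Nat.prime_dvd_prime_iff_eq hr Nat.prime_two).1 (hr.dvd_of_dvd_pow e))
    · have h60 : r ≤ 60 := Nat.le_of_dvd (by norm_num) e
      interval_cases r <;> revert hr e <;> decide) hN
  have ha0 : a = 0 := by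
    rw [hS, hPGc] at h8
    have := Nat.pow_right_injective (le_refl 2) (show 2 ^ (a + 3) = 2 ^ 3 by rw [h8])
    omega
  subst ha0
  have hbot : N₀ = ⊥ := Subgroup.card_eq_one.1 (by simpa using ha)
  set Hb := Cen z ⧸ zSub z with hHb
  have eHb : Hb ⧸ N₀ ≃* Hb := (QuotientGroup.quotientMulEquivOfEq hbot).trans QuotientGroup.quotientBot
  have hsb : IsSimpleGroup Hb := eHb.symm.isSimpleGroup
  have hcb : Nat.card Hb = 60 := by rw [← hc]; exact (Nat.card_congr eHb.toEquiv).symm
  obtain ⟨eA⟩ := Cfsg.Agent.S0494.result hcb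
  -- `z` is outside the derived group
  set zH : Cen z := ⟨z, mem_cen.2 (Commute.refl z)⟩ with hzH
  set SH : Subgroup (Cen z) := (S : Subgroup G).subgroupOf (Cen z) with hSH
  have hSHc : IsMulCommutative SH :=
    ⟨⟨fun p q => by
      have e := congrArg Subtype.val
        (hel.1.is_comm.comm (⟨((p : Cen z) : G), p.2⟩ : (S : Subgroup G)) ⟨((q : Cen z) : G), q.2⟩)
      exact Subtype.ext (Subtype.ext e)⟩⟩
  have hSHidx : SH.index = 15 := by
    have := SH.card_mul_index
    have hc8 : Nat.card SH = 8 := by rw [hSH, Nat.card_congr (subgroupOfEquivOfLe hSz).toEquiv, h8]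
    rw [hc8, hH] at this
    norm_num at this
    omega
  have hzD : zH ∉ commutator (Cen z) := by
    intro hm
    let _ : CommGroup SH := { (inferInstance : Group SH) with mul_comm := hSHc.is_comm.comm }
    let f : Cen z →* SH := MonoidHom.transfer (MonoidHom.id SH)
    have hzc : ∀ g : Cen z, Commute g zH := fun g => Subtype.ext (mem_cen.1 g.2).eq
    have hf : f zH = ⟨zH ^ SH.index, MonoidHom.transfer_eq_pow_aux zH
        (fun k g₀ _ => by rw [mul_assoc, ((hzc g₀).pow_right k).symm.eq, inv_mul_cancel_left])⟩ :=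
      MonoidHom.transfer_eq_pow (MonoidHom.id SH) zH
        (fun k g₀ _ => by rw [mul_assoc, ((hzc g₀).pow_right k).symm.eq, inv_mul_cancel_left])
    have h1 : f zH = 1 := Abelianization.commutator_subset_ker f hm
    rw [hf] at h1
    have e : ((zH : G)) ^ SH.index = 1 := congrArg (fun w : SH => ((w : Cen z) : G)) h1
    have e' := orderOf_dvd_of_pow_eq_one e
    rw [hzH, h.hz, hSHidx] at e'
    norm_num at e'
  set D := commutator (Cen z) with hD
  have hmap : D.map (QuotientGroup.mk' (zSub z)) = ⊤ := by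
    rw [hD, _root_.commutator_def, map_commutator, map_top_of_surjective _ (QuotientGroup.mk'_surjective _),
      ← _root_.commutator_def]
    rcases (inferInstance : (commutator Hb).Normal).eq_bot_or_eq_top with e | e
    · exfalso
      refine Cfsg.Agent.Lib.SmallGroups.Sylow.not_comm_of_card (by rw [hcb]; norm_num) (G := Hb)
        ⟨⟨fun p q => ?_⟩⟩
      have hm : ⁅p, q⁆ ∈ commutator Hb := commutator_mem_commutator (mem_top p) (mem_top q)
      rw [e, mem_bot] at hm
      exact commutatorElement_eq_one_iff_mul_comm.1 hm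
    · exact e
  have hdisj : D ⊓ zSub z = ⊥ := by
    refine eq_bot_iff.2 fun w hw => mem_bot.2 ?_
    rcases h.mem_zSub.1 hw.2 with e | e
    · exact Subtype.ext e
    · exact absurd (show zH ∈ D from (show w = zH from Subtype.ext e) ▸ hw.1) hzD
  -- the isomorphism
  let ψ : D →* Hb := (QuotientGroup.mk' (zSub z)).comp D.subtype
  have hψ : Function.Bijective ψ := by
    refine ⟨fun p q e => ?_, fun q => ?_⟩
    · have hm : (p : Cen z)⁻¹ * q ∈ D ⊓ zSub z :=
        Subgroup.mem_inf.2 ⟨mul_mem (inv_mem p.2) q.2, QuotientGroup.eq.1 e⟩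
      rw [hdisj, mem_bot] at hm
      exact Subtype.ext (inv_mul_eq_one.1 hm)
    · obtain ⟨d, hd, rfl⟩ := (hmap.ge (mem_top q) : q ∈ D.map _)
      exact ⟨⟨d, hd⟩, rfl⟩
  let eD : D ≃* alternatingGroup (Fin 5) := (MulEquiv.ofBijective ψ hψ).trans eA
  have hcomm : ∀ (p : zSub z) (q : D), Commute ((zSub z).subtype p) (D.subtype q) := by
    intro p q
    rcases h.mem_zSub.1 p.2 with e | e
    · rw [show (zSub z).subtype p = 1 from Subtype.ext e]; exact Commute.one_left _
    · exact Subtype.ext (show (p : Cen z).1 * (q : Cen z).1 = (q : Cen z).1 * (p : Cen z).1 by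
        rw [e]; exact (mem_cen.1 (q : Cen z).2).symm.eq)
  let m : zSub z × D →* Cen z := (zSub z).subtype.noncommCoprod D.subtype hcomm
  have hm : Function.Bijective m := by
    refine (Nat.bijective_iff_injective_and_card m).2 ⟨?_, ?_⟩
    · rw [injective_iff_map_eq_one]
      rintro ⟨p, q⟩ e
      have e' : (p : Cen z) * (q : Cen z) = 1 := e
      have hmem : (q : Cen z) ∈ D ⊓ zSub z :=
        Subgroup.mem_inf.2 ⟨q.2, by rw [eq_inv_of_mul_eq_one_right e']; exact inv_mem p.2⟩
      rw [hdisj, mem_bot] at hmem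
      rw [hmem, mul_one] at e'
      exact Prod.ext (Subtype.ext e') (Subtype.ext hmem)
    · rw [Nat.card_prod, Nat.card_congr (MulEquiv.ofBijective ψ hψ).toEquiv, hcb, h.card_zSub, hH]
      norm_num
  let eZ : zSub z ≃* Multiplicative (ZMod 2) :=
    mulEquivOfPrimeCardEq (p := 2) h.card_zSub (by simp)
  exact Cfsg.Agent.S1644.result S hel.1 h8 z h.hz
    ((MulEquiv.ofBijective m hm).symm.trans (MulEquiv.prodCongr eZ eD))

end Cfsg.Agent.Lib.SelfCentSix9
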