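import Cfsg.Agent.Lib.SelfCentSix9.Setup
import Cfsg.Agent.Lib.SelfCentSix9.Fuse
import Cfsg.Agent.S1004
import Cfsg.Agent.S0107
import Cfsg.Prelude.Def_Transfer

/-!
# `C(z)/⟨z⟩` is not simple of order 168

All involutions of the quotient would lift to involutions, so a Sylow 2-subgroup `S` would have only one
nontrivial square `e ≠ z`; both are central, yet `N(S)` cannot move `e` to `z`.
-/

set_option autoImplicit false

namespace Cfsg.Agent.Lib.SelfCentSix9

open Subgroup

universe u

/-- A simple group with a nontrivial element of odd order has no proper 2-residual. -/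
theorem pResidual_top {Y : Type u} [Group Y] (hY : IsSimpleGroup Y) {y : Y} (hy : y ≠ 1)
    (hodd : Nat.Coprime (orderOf y) 2) : Cfsg.pResidual 2 Y = ⊤ := by
  have hn : (Cfsg.pResidual 2 Y).Normal := by
    refine ⟨fun n hn g => ?_⟩
    unfold Cfsg.pResidual at hn ⊢
    induction hn using closure_induction with
    | mem w hw =>
      refine subset_closure ?_
      show Nat.Coprime (orderOf (g * w * g⁻¹)) 2
      rw [← MulAut.conj_apply, MulEquiv.orderOf_eq]
      exact hw
    | one => simp
    | mul p q _ _ hp hq =>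
      rw [show g * (p * q) * g⁻¹ = g * p * g⁻¹ * (g * q * g⁻¹) by group]
      exact mul_mem hp hq
    | inv p _ hp =>
      rw [show g * p⁻¹ * g⁻¹ = (g * p * g⁻¹)⁻¹ by group]
      exact inv_mem hp
  rcases hY.eq_bot_or_eq_top_of_normal _ hn with e | e
  · exact absurd (mem_bot.1 (e ▸ subset_closure hodd)) hy
  · exact e

theorem dihedral_four_facts :
    (∀ p q : DihedralGroup 4, p * p ≠ 1 → q * q ≠ 1 → q = p ∨ q = p⁻¹) ∧
    (∀ p : DihedralGroup 4, (p * p) * (p * p) = 1) ∧ (∃ p : DihedralGroup 4, p * p ≠ 1) := by decide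

variable {G : Type u} [Group G] [Finite G] {z x : G}

/-- Shape (C) is impossible. -/
theorem Ctx.not_one_sixty_eight (h : Ctx G z x) (hc : Nat.card (Cen z ⧸ zSub z) = 168)
    (hs : IsSimpleGroup (Cen z ⧸ zSub z)) : False := by
  have : Fact (Nat.Prime 2) := ⟨Nat.prime_two⟩
  obtain ⟨S, hSz⟩ := h.exists_sylow_le
  set π := QuotientGroup.mk' (zSub z) with hπ
  let T : Sylow 2 (Cen z ⧸ zSub z) := (S.subtype hSz).mapSurjective (QuotientGroup.mk'_surjective _)
  obtain ⟨⟨e⟩, -, -⟩ := Cfsg.Agent.S1004.result hc T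
  have hmemT : ∀ (y : G) (hy : y ∈ (S : Subgroup G)), π ⟨y, hSz hy⟩ ∈ (T : Subgroup (Cen z ⧸ zSub z)) :=
    fun y hy => mem_map_of_mem π (show (⟨y, hSz hy⟩ : Cen z) ∈ (S : Subgroup G).subgroupOf (Cen z) from hy)
  have hres : Cfsg.pResidual 2 (Cen z ⧸ zSub z) = ⊤ :=
    pResidual_top hs h.sc.ne_one (by rw [h.sc.ord]; norm_num)
  have hone := Cfsg.Agent.S0107.result T 2 le_rfl ⟨e⟩ hres
  obtain ⟨u, huS, huo, huz⟩ := h.exists_second_invol S z
  have hu1 : orderOf (π ⟨u, hSz huS⟩) = 2 := by
    refine orderOf_eq_prime ?_ fun he => ?_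
    · rw [← map_pow, show (⟨u, hSz huS⟩ : Cen z) ^ 2 = 1 from Subtype.ext (huo ▸ pow_orderOf_eq_one u),
        map_one]
    · rcases h.mem_zSub.1 ((QuotientGroup.eq_one_iff _).1 he) with e' | e'
      · simp [show u = 1 from e'] at huo
      · exact huz e'
  -- lifts of involutions and of `1` are of exponent two
  have hlift : ∀ (y : G) (hy : y ∈ Cen z), π ⟨y, hy⟩ ^ 2 = 1 → y * y = 1 := by
    intro y hy hy2
    by_cases h1 : π ⟨y, hy⟩ = 1
    · rcases h.mem_zSub.1 ((QuotientGroup.eq_one_iff _).1 h1) with e' | e' <;> simp only at e' <;> rw [e']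
      · exact mul_one 1
      · exact h.z_sq
    · obtain ⟨gq, hg⟩ := hone _ _ hu1 (orderOf_eq_prime hy2 h1)
      obtain ⟨g, rfl⟩ := QuotientGroup.mk_surjective gq
      have hm : ((g * ⟨u, hSz huS⟩ * g⁻¹)⁻¹ * ⟨y, hy⟩ : Cen z) ∈ zSub z := by
        rw [← QuotientGroup.eq]
        simpa [π] using hg
      have hv : ((g : G) * u * (g : G)⁻¹) * ((g : G) * u * (g : G)⁻¹) = 1 := by
        rw [show (g : G) * u * (g : G)⁻¹ * ((g : G) * u * (g : G)⁻¹) = g * (u * u) * (g : G)⁻¹ by group,
          ← pow_two, ← huo, pow_orderOf_eq_one, mul_one, mul_inv_cancel]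
      have hvz : Commute ((g : G) * u * (g : G)⁻¹) z :=
        mem_cen.1 (mul_mem (mul_mem g.2 (hSz huS)) (inv_mem g.2))
      rcases h.mem_zSub.1 hm with e' | e' <;>
        simp only [Subgroup.coe_mul, Subgroup.coe_inv, inv_mul_eq_iff_eq_mul] at e' <;> rw [e']
      · rw [mul_one]; exact hv
      · rw [← pow_two, hvz.mul_pow, pow_two, pow_two, hv, h.z_sq, one_mul]
  obtain ⟨f1, f2, ⟨p, hp⟩⟩ := dihedral_four_facts
  -- an element `w` of `S` over an element of order four
  obtain ⟨w, hw, hwT⟩ := (e.symm p).2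
  have hy0 : (w : G) ∈ (S : Subgroup G) := hw
  set e0 := (w : G) * w with he0
  let ψ : ∀ (y : G), y ∈ (S : Subgroup G) → DihedralGroup 4 := fun y hy => e ⟨_, hmemT y hy⟩
  have hsqu : ∀ y ∈ (S : Subgroup G), y * y = 1 ∨ y * y = e0 := by
    intro y hy
    by_cases hq : π ⟨y, hSz hy⟩ ^ 2 = 1
    · exact Or.inl (hlift y _ hq)
    · right
      have hne : ψ y hy * ψ y hy ≠ 1 := by
        intro he
        apply hq
        rw [← map_mul, map_eq_one_iff _ e.injective] at he
        rw [pow_two]
        exact congrArg Subtype.val he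
      have hcase := f1 p (ψ y hy) hp hne
      have hw4 : e0 * e0 = 1 := by
        refine hlift e0 (mul_mem (hSz hy0) (hSz hy0)) ?_
        have h4 := f2 p
        rw [show (⟨e0, mul_mem (hSz hy0) (hSz hy0)⟩ : Cen z) = w * w from Subtype.ext rfl, map_mul,
          pow_two]
        rw [show π w = _ from hwT]
        exact congrArg Subtype.val
          (show e.symm p * e.symm p * (e.symm p * e.symm p) = 1 by rw [← map_mul, ← map_mul, h4, map_one])
      have key : ∀ v : Cen z, ((v : G) = w ∨ (v : G) = (w : G)⁻¹) → π ⟨y, hSz hy⟩ = π v → y * y = e0 := by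
        intro v hv he
        have he' : (v⁻¹ * ⟨y, hSz hy⟩ : Cen z) ∈ zSub z := QuotientGroup.eq.1 he.symm
        rw [h.mem_zSub] at he'
        simp only [Subgroup.coe_mul, Subgroup.coe_inv, inv_mul_eq_iff_eq_mul] at he'
        have hvz : Commute (v : G) z := mem_cen.1 v.2
        have hyv : y * y = (v : G) * v := by
          rcases he' with e' | e'
          · rw [e', mul_one]
          · rw [e', ← pow_two ((v : G) * z), hvz.mul_pow, pow_two z, h.z_sq, mul_one, pow_two]
        rw [hyv]
        rcases hv with e' | e' <;> rw [e']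
        rw [← mul_inv_rev, inv_eq_of_mul_eq_one_right hw4]
      rcases hcase with e' | e'
      · refine key w (Or.inl rfl) ?_
        have := congrArg e.symm e'
        simp only [ψ, MulEquiv.symm_apply_apply] at this
        exact (congrArg Subtype.val this).trans hwT.symm
      · refine key w⁻¹ (Or.inr rfl) ?_
        have := congrArg e.symm e'
        simp only [ψ, MulEquiv.symm_apply_apply, map_inv] at this
        rw [map_inv, hwT]
        exact congrArg Subtype.val this
  have he01 : e0 ≠ 1 := by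
    intro he
    apply hp
    have : e.symm p * e.symm p = 1 := by
      refine Subtype.ext ?_
      rw [Subgroup.coe_mul, ← hwT, ← map_mul, show w * w = 1 from Subtype.ext he, map_one]
      rfl
    rw [← map_mul, map_eq_one_iff _ e.symm.injective] at this
    exact this
  have he0z : e0 ≠ z := by
    intro he
    apply hp
    have : e.symm p * e.symm p = 1 := by
      refine Subtype.ext ?_
      rw [Subgroup.coe_mul, ← hwT, ← map_mul]
      exact (QuotientGroup.eq_one_iff _).2 (h.mem_zSub.2 (Or.inr he))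
    rw [← map_mul, map_eq_one_iff _ e.symm.injective] at this
    exact this
  have hcent : ∀ s ∈ (S : Subgroup G), s * e0 = e0 * s := by
    intro s hs
    have hm : s * w * s⁻¹ ∈ (S : Subgroup G) := mul_mem (mul_mem hs hy0) (inv_mem hs)
    have hsq : s * w * s⁻¹ * (s * w * s⁻¹) = s * e0 * s⁻¹ := by rw [he0]; group
    rcases hsqu _ hm with e' | e' <;> rw [hsq] at e'
    · exact absurd (by simpa using e') he01
    · exact mul_inv_eq_iff_eq_mul.1 e'
  have he0o : orderOf e0 = 2 := by
    refine orderOf_eq_prime ?_ he01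
    rcases hsqu e0 (mul_mem hy0 hy0) with e' | e'
    · rw [pow_two]; exact e'
    · exact absurd (mul_eq_left.1 e') he01
  obtain ⟨k, hk⟩ := h.exists_conj he0o
  obtain ⟨n, hn, hne⟩ := Sylow.conj_eq_normalizer_conj_of_mem_centralizer S e0 k⁻¹
    (mem_centralizer_iff.2 hcent)
    (by rw [inv_inv, hk]; exact mem_centralizer_iff.2 fun s hs => (mem_cen.1 (hSz hs)).eq)
  rw [inv_inv, hk] at hne
  have hsq : n⁻¹ * w * n * (n⁻¹ * w * n) = z := Eq.trans (by rw [he0]; group) hne.symm
  have hm : n⁻¹ * w * n ∈ (S : Subgroup G) := by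
    have := (mem_normalizer_iff.1 (inv_mem hn) w).1 hy0
    rwa [inv_inv] at this
  rcases hsqu _ hm with e' | e' <;> rw [hsq] at e'
  · exact h.z_ne e'
  · exact he0z e'.symm

end Cfsg.Agent.Lib.SelfCentSix9
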