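import Cfsg.Agent.Lib.SelfCentSix9.Six.LargeCount
import Cfsg.Agent.Lib.SelfCentSix9.Six.SmallQ
import Cfsg.Agent.Lib.SelfCentSix9.Six.Quaternion
import Cfsg.Agent.Lib.SelfCentSix9.ShapeB
import Cfsg.Agent.Lib.SelfCentSix9.ShapeC

/-!
# One class of involutions and a self-centralising element of order six
-/

set_option autoImplicit false

namespace Cfsg.Agent.Lib.SelfCentSix9

open Subgroup

universe u

variable {G : Type u} [Group G] [Finite G] {z x : G}

/-- The five groups. -/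
theorem Ctx.classification (h : Ctx G z x) :
    (∃ (F : Type) (_ : Field F) (_ : Fintype F), (Fintype.card F = 11 ∨ Fintype.card F = 13) ∧
        Nonempty (G ≃* Matrix.ProjectiveSpecialLinearGroup (Fin 2) F)) ∨
      (∃ (F : Type) (_ : Field F) (_ : Fintype F), Fintype.card F = 3 ∧
        Nonempty (G ≃* Matrix.ProjectiveSpecialLinearGroup (Fin 3) F)) ∨
      Cfsg.Spor.IsoM11 G ∨ Cfsg.Spor.IsoJ1 G := by
  rcases Spectrum.SelfThree.shape h.sc with ⟨N₀, hN₀, h3, hidx⟩ | ⟨N₀, hN₀, hexp, h60, hs⟩ | ⟨hc, hs⟩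
  · obtain ⟨Q, K, D⟩ := h.dataA hN₀ h3 hidx
    rcases hidx with e | e <;> rw [e] at D
    · exact (h.not_index_three D).elim
    obtain ⟨S, D6⟩ := h.exists_D6 D
    rcases h.exists_good D.two D.z_mem D.Q_le (D.Q_norm h.x_mem) with h2 | ⟨h8, hun⟩ | hg
    · exact Or.inl (D6.psl_two h h2)
    · exact Or.inr ((D6.quaternion h h8 hun).imp_right Or.inl)
    · obtain ⟨u, L⟩ := D6.exists_large h hg
      exact L.false.elim
  · exact Or.inr (Or.inr (Or.inr (h.iso_J1 hN₀ hexp h60 hs)))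
  · exact (h.not_one_sixty_eight hc hs).elim

end Cfsg.Agent.Lib.SelfCentSix9
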