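import Cfsg.Agent.Lib.SelfCentSix9.Setup
import Cfsg.Agent.Lib.PGroups.Omega

/-!
# A good involution in an `x`-invariant 2-subgroup of `C(z)`

A good involution of `Q` is an involution `u ≠ z` of `Q` central modulo `⟨z⟩`.  There is one unless
`Q = ⟨z⟩` or `Q` has order eight and a single involution; it commutes with its conjugate under `x`, and an
element inducing an involution on `Q` modulo `⟨z⟩` fixes some good involution modulo `⟨z⟩`.
-/

set_option autoImplicit false

namespace Cfsg.Agent.Lib.SelfCentSix9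

open Subgroup

universe u

variable {G : Type u} [Group G]

/-- The commutator, in the order used here. -/
abbrev cm (s p : G) : G := s * p * s⁻¹ * p⁻¹

/-- An involution of `Q` other than `z`, central modulo `⟨z⟩`. -/
structure Good (z : G) (Q : Subgroup G) (u : G) : Prop where
  mem : u ∈ Q
  ord : orderOf u = 2
  ne : u ≠ z
  cent : ∀ s ∈ Q, cm s u ∈ zpowers z

section Basic

variable {z : G} {Q : Subgroup G} {u : G}

theorem Good.sq (g : Good z Q u) : u * u = 1 := by rw [← pow_two, ← g.ord, pow_orderOf_eq_one]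

theorem Good.inv_self (g : Good z Q u) : u⁻¹ = u := inv_eq_of_mul_eq_one_right g.sq

theorem Good.ne_one (g : Good z Q u) : u ≠ 1 := fun e => by simpa [e] using g.ord

theorem cm_eq_one_iff {s p : G} : cm s p = 1 ↔ Commute s p := by
  rw [cm, mul_inv_eq_one, mul_inv_eq_iff_eq_mul]
  exact Iff.rfl

end Basic

namespace Ctx

variable {z x : G} (h : Ctx G z x) {Q : Subgroup G}
include h

theorem comm_of_mem {y w : G} (hy : y ∈ Cen z) (hw : w ∈ zpowers z) : Commute y w := by
  rcases h.cases_zpowers_z hw with e | e <;> subst e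
  · exact Commute.one_right y
  · exact mem_cen.1 hy

theorem inv_eq_self {w : G} (hw : w ∈ zpowers z) : w⁻¹ = w := by
  rcases h.cases_zpowers_z hw with e | e <;> subst e
  · exact inv_one
  · exact h.z_inv

theorem mul_self_eq {w : G} (hw : w ∈ zpowers z) : w * w = 1 := by
  rcases h.cases_zpowers_z hw with e | e <;> subst e
  · exact mul_one 1
  · exact h.z_sq

theorem good_not_mem {u : G} (g : Good z Q u) : u ∉ zpowers z := fun hu =>
  (h.cases_zpowers_z hu).elim g.ne_one g.ne

/-- A commutator in `⟨z⟩` is symmetric. -/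
theorem cm_symm {a b : G} (hab : cm a b ∈ zpowers z) : cm b a = cm a b := by
  rw [← h.inv_eq_self hab]
  simp only [cm]
  group

variable (hQz : Q ≤ Cen z)
include hQz

/-- Multiplicativity of the commutator in the first variable. -/
theorem cm_mul_left {a b p : G} (ha : a ∈ Q) (hp : p ∈ Q) (hb : cm b p ∈ zpowers z) :
    cm (a * b) p = cm a p * cm b p := by
  have hc := h.comm_of_mem (hQz ha) hb
  have hc2 : Commute (cm a p) (cm b p) :=
    h.comm_of_mem (mul_mem (mul_mem (mul_mem (hQz ha) (hQz hp)) (inv_mem (hQz ha)))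
      (inv_mem (hQz hp))) hb
  calc cm (a * b) p = (a * cm b p) * (p * a⁻¹ * p⁻¹) := by simp only [cm]; group
    _ = cm b p * cm a p := by rw [hc.eq]; simp only [cm]; group
    _ = cm a p * cm b p := hc2.eq.symm

/-- Multiplicativity of the commutator in the second variable. -/
theorem cm_mul_right {a p q : G} (_ha : a ∈ Q) (hp : p ∈ Q) (hq : cm a q ∈ zpowers z) :
    cm a (p * q) = cm a p * cm a q := by
  have hc := h.comm_of_mem (hQz hp) hq
  calc cm a (p * q) = (a * p * a⁻¹) * cm a q * p⁻¹ := by simp only [cm]; group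
    _ = (a * p * a⁻¹) * (cm a q * p⁻¹) := by rw [mul_assoc]
    _ = cm a p * cm a q := by rw [← (hc.inv_left).eq]; simp only [cm]; group

end Ctx

namespace Ctx

variable [Finite G] {z x : G} (h : Ctx G z x) {Q : Subgroup G} (hQ : IsPGroup 2 Q) (hzQ : z ∈ Q)
  (hQz : Q ≤ Cen z) (hxQ : x ∈ normalizer (Q : Set G))
include h

omit [Finite G] in
/-- Conjugation by an element of `C(z)` fixes `⟨z⟩` pointwise. -/
theorem conj_zpowers {g w : G} (hg : g ∈ Cen z) (hw : w ∈ zpowers z) : g * w * g⁻¹ = w :=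
  mul_inv_eq_iff_eq_mul.2 (h.comm_of_mem hg hw).eq

omit [Finite G] in
/-- Good involutions are permuted by the normalisers of `Q` in `C(z)`. -/
theorem good_conj {u : G} (g : Good z Q u) {a : G} (ha : a ∈ Cen z)
    (haQ : a ∈ normalizer (Q : Set G)) : Good z Q (a * u * a⁻¹) := by
  refine ⟨(mem_normalizer_iff.1 haQ u).1 g.mem, by rw [← MulAut.conj_apply, MulEquiv.orderOf_eq, g.ord],
    fun e => g.ne ?_, fun s hs => ?_⟩
  · calc u = a⁻¹ * (a * u * a⁻¹) * a := by group
      _ = a⁻¹ * (a * z * a⁻¹) * a := by rw [e, h.conj_zpowers ha (mem_zpowers z)]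
      _ = z := by group
  · have hs' : a⁻¹ * s * a ∈ Q := by
      have := (mem_normalizer_iff.1 (inv_mem haQ) s).1 hs
      rwa [inv_inv] at this
    have hc := g.cent _ hs'
    have e : cm s (a * u * a⁻¹) = a * cm (a⁻¹ * s * a) u * a⁻¹ := by simp only [cm]; group
    rw [e, h.conj_zpowers ha hc]
    exact hc

include hQ hQz hxQ

omit [Finite G] hQ hQz in
theorem good_conj_x {u : G} (g : Good z Q u) : Good z Q (x * u * x⁻¹) := h.good_conj g h.x_mem hxQ

omit [Finite G] hxQ in
/-- A good involution is not fixed by `x` modulo `⟨z⟩`. -/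
theorem good_x_ne {u : G} (g : Good z Q u) : (x * u * x⁻¹) * u ∉ zpowers z := by
  intro hm
  have e : x * u * x⁻¹ * u⁻¹ ∈ zpowers z := by rwa [g.inv_self]
  rcases h.cases_zpowers_z e with e | e
  · rcases h.eq_of_commute_x hQ hQz g.mem (mul_inv_eq_iff_eq_mul.1 (mul_inv_eq_one.1 e)).symm with e | e
    · exact g.ne_one e
    · exact g.ne e
  · -- conjugating three times multiplies by `z ^ 3`
    have e1 : x * u * x⁻¹ = z * u := mul_inv_eq_iff_eq_mul.1 e
    have e2 : ∀ w : G, x * (z * w) * x⁻¹ = z * (x * w * x⁻¹) := by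
      intro w
      rw [← mul_assoc x z w, ← h.comm.eq]
      group
    have e3 : u = z * (z * (z * u)) := by
      calc u = x ^ 3 * u * (x ^ 3)⁻¹ := by rw [h.x_cube]; group
        _ = x * (x * (x * u * x⁻¹) * x⁻¹) * x⁻¹ := by
            simp only [pow_succ, pow_zero, one_mul]; group
        _ = z * (z * (z * u)) := by rw [e1, e2, e1, e2, e2, e1]
    rw [← mul_assoc z z, h.z_sq, one_mul] at e3
    exact h.z_ne (mul_eq_right.1 e3.symm)

omit [Finite G] in
/-- A good involution commutes with its `x`-conjugate. -/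
theorem good_commute {u : G} (g : Good z Q u) : Commute u (x * u * x⁻¹) := by
  set v := x * u * x⁻¹ with hv
  set w := x * v * x⁻¹ with hw
  have gv : Good z Q v := h.good_conj_x hxQ g
  have gw : Good z Q w := h.good_conj_x hxQ gv
  have hwu : x * w * x⁻¹ = u := by
    rw [hw, hv]
    calc x * (x * (x * u * x⁻¹) * x⁻¹) * x⁻¹ = x ^ 3 * u * (x ^ 3)⁻¹ := by
          simp only [pow_succ, pow_zero, one_mul]; group
      _ = u := by rw [h.x_cube]; group
  set p := u * v * w with hp
  -- `x` moves `p` to `v w u`, a conjugate of `p` by `u`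
  have e1 : x * p * x⁻¹ = u⁻¹ * p * u := by
    have e : x * p * x⁻¹ = (x * u * x⁻¹) * (x * v * x⁻¹) * (x * w * x⁻¹) := by rw [hp]; group
    rw [e, hwu, ← hv, ← hw, hp]
    group
  have hcm : cm u⁻¹ p ∈ zpowers z := by
    rw [g.inv_self, hp]
    have hcu : ∀ {t : G}, Good z Q t → cm u t ∈ zpowers z := fun gt => gt.cent u g.mem
    rw [h.cm_mul_right hQz g.mem (mul_mem g.mem gv.mem) (hcu gw),
      h.cm_mul_right hQz g.mem g.mem (hcu gv)]
    exact mul_mem (mul_mem (hcu g) (hcu gv)) (hcu gw)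
  have hpQ : p ∈ Q := mul_mem (mul_mem g.mem gv.mem) gw.mem
  have e2 : x * p * x⁻¹ = cm u⁻¹ p * p := by rw [e1, cm]; group
  have hpfix : Commute p x := by
    rcases h.cases_zpowers_z hcm with e | e
    · rw [e, one_mul] at e2
      exact (mul_inv_eq_iff_eq_mul.1 e2).symm
    · exfalso
      rw [e] at e2
      have e3 : ∀ t : G, x * (z * t) * x⁻¹ = z * (x * t * x⁻¹) := by
        intro t
        rw [← mul_assoc x z t, ← h.comm.eq]
        group
      have e4 : p = z * (z * (z * p)) := by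
        calc p = x ^ 3 * p * (x ^ 3)⁻¹ := by rw [h.x_cube]; group
          _ = x * (x * (x * p * x⁻¹) * x⁻¹) * x⁻¹ := by
              simp only [pow_succ, pow_zero, one_mul]; group
          _ = z * (z * (z * p)) := by rw [e2, e3, e2, e3, e3, e2]
      rw [← mul_assoc z z, h.z_sq, one_mul] at e4
      exact h.z_ne (mul_eq_right.1 e4.symm)
  have hpz : p ∈ zpowers z := by
    rcases h.eq_of_commute_x hQ hQz hpQ hpfix with e | e <;> rw [e]
    · exact one_mem _
    · exact mem_zpowers z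
  -- `u v = p w`, so `(u v)² = 1`
  have e5 : u * v = p * w := by
    rw [hp, mul_assoc (u * v), gw.sq, mul_one]
  have e6 : (u * v) * (u * v) = 1 := by
    rw [e5]
    have hc := (h.comm_of_mem (hQz gw.mem) hpz)
    rw [show p * w * (p * w) = p * (w * p) * w by group, hc.eq,
      show p * (p * w) * w = p * p * (w * w) by group, h.mul_self_eq hpz, gw.sq, one_mul]
  calc u * v = (u * v)⁻¹ := (inv_eq_of_mul_eq_one_right e6).symm
    _ = v * u := by rw [mul_inv_rev, g.inv_self, gv.inv_self]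

include hzQ

/-- There is a good involution unless `|Q| = 2` or `Q` has order eight and a single involution. -/
theorem exists_good :
    Nat.card Q = 2 ∨ (Nat.card Q = 8 ∧ ∀ y ∈ Q, orderOf y = 2 → y = z) ∨ ∃ u, Good z Q u := by
  classical
  have : Fact (Nat.Prime 2) := ⟨Nat.prime_two⟩
  set Z : Subgroup Q := zpowers (⟨z, hzQ⟩ : Q) with hZdef
  have hmemZ : ∀ {y : Q}, y ∈ Z ↔ (y : G) ∈ zpowers z := by
    intro y
    constructor
    · intro hy
      obtain ⟨k, rfl⟩ := mem_zpowers_iff.1 hy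
      exact mem_zpowers_iff.2 ⟨k, by simp⟩
    · intro hy
      obtain ⟨k, hk⟩ := mem_zpowers_iff.1 hy
      exact mem_zpowers_iff.2 ⟨k, Subtype.ext (by simpa using hk)⟩
  have hZn : Z.Normal := ⟨fun n hn g => hmemZ.2 (by
    rw [Subgroup.coe_mul, Subgroup.coe_mul, Subgroup.coe_inv, h.conj_zpowers (hQz g.2) (hmemZ.1 hn)]
    exact hmemZ.1 hn)⟩
  have hZc : Nat.card Z = 2 := by
    rw [hZdef, Nat.card_zpowers, ← Subgroup.orderOf_coe]; exact h.hz
  by_cases hQ2 : Nat.card Q = 2
  · exact Or.inl hQ2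
  right
  by_cases hgood : ∃ u, Good z Q u
  · exact Or.inr hgood
  left
  -- a nontrivial element `a` of order two in the centre of `Q / ⟨z⟩`
  have hqnt : Nontrivial (Q ⧸ Z) := by
    rw [← Finite.one_lt_card_iff_nontrivial]
    have e := card_eq_card_quotient_mul_card_subgroup Z
    rw [hZc] at e
    have := Nat.card_pos (α := Q ⧸ Z)
    omega
  have := (hQ.to_quotient Z).center_nontrivial
  obtain ⟨⟨a', ha'⟩, hao⟩ := exists_prime_orderOf_dvd_card' 2
    (((hQ.to_quotient Z).to_subgroup (center (Q ⧸ Z))).card_eq_or_dvd.resolve_left Finite.one_lt_card.ne')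
  obtain ⟨⟨a, haQ⟩, rfl⟩ := QuotientGroup.mk_surjective a'
  rw [← Subgroup.orderOf_coe] at hao
  have ha2 : a * a ∈ zpowers z := by
    have := pow_orderOf_eq_one ((⟨a, haQ⟩ : Q) : Q ⧸ Z)
    rw [hao, pow_two, ← QuotientGroup.mk_mul, QuotientGroup.eq_one_iff] at this
    exact hmemZ.1 this
  have haz : a ∉ zpowers z := by
    intro hm
    have : ((⟨a, haQ⟩ : Q) : Q ⧸ Z) = 1 := (QuotientGroup.eq_one_iff _).2 (hmemZ.2 hm)
    simp only [this, orderOf_one] at hao
    omega
  have hac : ∀ s ∈ Q, cm s a ∈ zpowers z := by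
    intro s hs
    have := mem_center_iff.1 ha' ((⟨s, hs⟩ : Q) : Q ⧸ Z)
    have e : ((⟨s, hs⟩ * ⟨a, haQ⟩ * ⟨s, hs⟩⁻¹ * ⟨a, haQ⟩⁻¹ : Q) : Q ⧸ Z) = 1 := by
      rw [QuotientGroup.mk_mul, QuotientGroup.mk_mul, QuotientGroup.mk_mul, this,
        QuotientGroup.mk_inv, QuotientGroup.mk_inv]
      group
    exact hmemZ.1 ((QuotientGroup.eq_one_iff _).1 e)
  -- an involution central modulo `⟨z⟩` is `z`
  have hno : ∀ t ∈ Q, (∀ s ∈ Q, cm s t ∈ zpowers z) → t * t = 1 → t ∈ zpowers z := by
    intro t ht htc ht2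
    by_contra htz
    refine hgood ⟨t, ht, orderOf_eq_prime (by rw [pow_two, ht2]) fun e => htz ?_,
      fun e => htz (e ▸ mem_zpowers z), htc⟩
    rw [e]; exact one_mem _
  set b := x * a * x⁻¹ with hb
  have hbQ : b ∈ Q := (mem_normalizer_iff.1 hxQ a).1 haQ
  have hbc : ∀ s ∈ Q, cm s b ∈ zpowers z := by
    intro s hs
    have hs' : x⁻¹ * s * x ∈ Q := by
      have := (mem_normalizer_iff.1 (inv_mem hxQ) s).1 hs
      rwa [inv_inv] at this
    have e : cm s b = x * cm (x⁻¹ * s * x) a * x⁻¹ := by rw [hb]; simp only [cm]; group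
    rw [e, h.conj_zpowers h.x_mem (hac _ hs')]
    exact hac _ hs'
  have hb2 : b * b ∈ zpowers z := by
    rw [hb, show x * a * x⁻¹ * (x * a * x⁻¹) = x * (a * a) * x⁻¹ by group,
      h.conj_zpowers h.x_mem ha2]
    exact ha2
  have ha2z : a * a = z := by
    refine (h.cases_zpowers_z ha2).resolve_left fun e => haz (hno a haQ hac e)
  have hb2z : b * b = z := by
    rw [hb, show x * a * x⁻¹ * (x * a * x⁻¹) = x * (a * a) * x⁻¹ by group, ha2z]
    exact h.conj_zpowers h.x_mem (mem_zpowers z)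
  have habz : a * b ∉ zpowers z := by
    intro hm
    -- `x` would fix `a` modulo `⟨z⟩`
    have e : b ∈ zpowers z ∨ cm x a ∈ zpowers z := by
      right
      have e1 : cm x a = b * a⁻¹ := by rw [hb]
      have e2 : b * a⁻¹ = a * (a⁻¹ * b) * a⁻¹ := by group
      have e3 : a⁻¹ * b = z⁻¹ * (a * b) := by rw [← ha2z]; group
      rw [e1, e2, e3, h.conj_zpowers (hQz haQ) (mul_mem (inv_mem (mem_zpowers z)) hm)]
      exact mul_mem (inv_mem (mem_zpowers z)) hm
    rcases e with e | e
    · rcases h.cases_zpowers_z e with e | e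
      · rw [e, mul_one] at hb2z; exact h.z_ne hb2z.symm
      · rw [e, h.z_sq] at hb2z; exact h.z_ne hb2z.symm
    · rcases h.cases_zpowers_z e with e | e
      · rcases h.eq_of_commute_x hQ hQz haQ (cm_eq_one_iff.1 e).symm with e | e
        · exact haz (e ▸ one_mem _)
        · exact haz (e ▸ mem_zpowers z)
      · have e1 : x * a * x⁻¹ = z * a := mul_inv_eq_iff_eq_mul.1 e
        have e2 : ∀ w : G, x * (z * w) * x⁻¹ = z * (x * w * x⁻¹) := by
          intro w
          rw [← mul_assoc x z w, ← h.comm.eq]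
          group
        have e3 : a = z * (z * (z * a)) := by
          calc a = x ^ 3 * a * (x ^ 3)⁻¹ := by rw [h.x_cube]; group
            _ = x * (x * (x * a * x⁻¹) * x⁻¹) * x⁻¹ := by
                simp only [pow_succ, pow_zero, one_mul]; group
            _ = z * (z * (z * a)) := by rw [e1, e2, e1, e2, e2, e1]
        rw [← mul_assoc z z, h.z_sq, one_mul] at e3
        exact h.z_ne (mul_eq_right.1 e3.symm)
  have hab : cm a b = z := by
    refine (h.cases_zpowers_z (hbc a haQ)).resolve_left fun e => habz (hno _ (mul_mem haQ hbQ) ?_ ?_)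
    · intro s hs
      rw [h.cm_mul_right hQz hs haQ (hbc s hs)]
      exact mul_mem (hac s hs) (hbc s hs)
    · have hc : Commute a b := cm_eq_one_iff.1 e
      rw [show a * b * (a * b) = a * (b * a) * b by group, ← hc.eq,
        show a * (a * b) * b = a * a * (b * b) by group, ha2z, hb2z, h.z_sq]
  -- the centraliser of `a` and `b` in `Q` is `⟨z⟩`
  have hcent : ∀ c ∈ Q, cm c a = 1 → cm c b = 1 → c ∈ zpowers z := by
    let C : Subgroup Q :=
      { carrier := {c | cm (c : G) a = 1 ∧ cm (c : G) b = 1}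
        one_mem' := by simp [cm]
        mul_mem' := fun {c d} hc hd => by
          simp only [Set.mem_ofPred_eq, cm_eq_one_iff, Subgroup.coe_mul] at hc hd ⊢
          exact ⟨hc.1.mul_left hd.1, hc.2.mul_left hd.2⟩
        inv_mem' := fun {c} hc => by
          simp only [Set.mem_ofPred_eq, cm_eq_one_iff, Subgroup.coe_inv] at hc ⊢
          exact ⟨hc.1.inv_left, hc.2.inv_left⟩ }
    have hCn : C.Normal := by
      refine ⟨fun c hc g => ?_⟩
      have key : ∀ t ∈ Q, cm (g : G)⁻¹ t ∈ zpowers z → cm (c : G) t = 1 →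
          cm ((g * c * g⁻¹ : Q) : G) t = 1 := by
        intro t ht hgt hct
        rw [cm_eq_one_iff] at hct ⊢
        have hct2 : Commute (c : G) ((g : G)⁻¹ * t * g) := by
          have e : (g : G)⁻¹ * t * g = cm (g : G)⁻¹ t * t := by simp only [cm]; group
          rw [e]
          exact (h.comm_of_mem (hQz c.2) hgt).mul_right hct
        have := hct2.map (MulAut.conj (g : G))
        simp only [MulAut.conj_apply] at this
        rw [show (g : G) * ((g : G)⁻¹ * t * g) * (g : G)⁻¹ = t by group] at this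
        simpa using this
      exact ⟨key a haQ (hac _ (inv_mem g.2)) hc.1, key b hbQ (hbc _ (inv_mem g.2)) hc.2⟩
    intro c hc hca hcb
    by_contra hcz
    set Cb := C.map (QuotientGroup.mk' Z) with hCb
    have hCbn : Cb.Normal := hCn.map _ (QuotientGroup.mk'_surjective Z)
    have hne : Cb ≠ ⊥ := fun e => hcz (hmemZ.1 ((QuotientGroup.eq_one_iff _).1
      (mem_bot.1 (e.le (mem_map_of_mem (QuotientGroup.mk' Z) (show (⟨c, hc⟩ : Q) ∈ C from ⟨hca, hcb⟩))))))
    have hmeet := PGroups.normal_inf_center_ne_bot (hQ.to_quotient Z) Cb hne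
    obtain ⟨d', hd', hdo⟩ := PGroups.exists_orderOf_eq_prime_of_ne_bot ((hQ.to_quotient Z).to_subgroup _) hmeet
    obtain ⟨⟨⟨d, hdQ⟩, hdC, rfl⟩, hdc⟩ := hd'
    have hd2 : d * d ∈ zpowers z := by
      have := pow_orderOf_eq_one (QuotientGroup.mk' Z (⟨d, hdQ⟩ : Q))
      rw [hdo, pow_two, ← map_mul, QuotientGroup.mk'_apply, QuotientGroup.eq_one_iff] at this
      exact hmemZ.1 this
    have hdz : d ∉ zpowers z := by
      intro hm
      rw [QuotientGroup.mk'_apply, (QuotientGroup.eq_one_iff _).2 (hmemZ.2 hm), orderOf_one] at hdo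
      omega
    have hdcm : ∀ s ∈ Q, cm s d ∈ zpowers z := by
      intro s hs
      have := mem_center_iff.1 hdc ((⟨s, hs⟩ : Q) : Q ⧸ Z)
      have e : ((⟨s, hs⟩ * ⟨d, hdQ⟩ * ⟨s, hs⟩⁻¹ * ⟨d, hdQ⟩⁻¹ : Q) : Q ⧸ Z) = 1 := by
        rw [QuotientGroup.mk'_apply] at this
        rw [QuotientGroup.mk_mul, QuotientGroup.mk_mul, QuotientGroup.mk_mul, this,
          QuotientGroup.mk_inv, QuotientGroup.mk_inv]
        group
      exact hmemZ.1 ((QuotientGroup.eq_one_iff _).1 e)
    have hd2z : d * d = z := (h.cases_zpowers_z hd2).resolve_left fun e => hdz (hno d hdQ hdcm e)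
    have hda : Commute d a := cm_eq_one_iff.1 hdC.1
    have hdaz : d * a ∈ zpowers z := by
      refine hno _ (mul_mem hdQ haQ) (fun s hs => ?_) ?_
      · rw [h.cm_mul_right hQz hs hdQ (hac s hs)]
        exact mul_mem (hdcm s hs) (hac s hs)
      · rw [show d * a * (d * a) = d * (a * d) * a by group, ← hda.eq,
          show d * (d * a) * a = d * d * (a * a) by group, ha2z, hd2z, h.z_sq]
    -- so `d` is `a` modulo `⟨z⟩`, which does not commute with `b`
    have e1 : a = d⁻¹ * (d * a) := by group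
    have : Commute a b := by
      rw [e1]
      exact ((cm_eq_one_iff.1 hdC.2).inv_left).mul_left (h.comm_of_mem (hQz hbQ) hdaz).symm
    rw [cm_eq_one_iff.2 this] at hab
    exact h.z_ne hab.symm
  have hba : cm b a = z := by rw [h.cm_symm (hbc a haQ), hab]
  have haa : cm a a = 1 := cm_eq_one_iff.2 (Commute.refl a)
  have hbb : cm b b = 1 := cm_eq_one_iff.2 (Commute.refl b)
  -- every element is `w t` with `w ∈ ⟨z⟩` and `t ∈ {1, a, b, a b}`
  have hdec : ∀ s ∈ Q, ∃ t ∈ ({1, a, b, a * b} : Set G), s * t ∈ zpowers z := by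
    intro s hs
    have hone : ∀ t : G, t * 1 * t⁻¹ * 1⁻¹ = 1 := fun t => by simp
    rcases h.cases_zpowers_z (hac s hs) with e1 | e1 <;> rcases h.cases_zpowers_z (hbc s hs) with e2 | e2
    · exact ⟨1, by simp, by rw [mul_one]; exact hcent s hs e1 e2⟩
    · refine ⟨a, by simp, hcent _ (mul_mem hs haQ) ?_ ?_⟩
      · rw [h.cm_mul_left hQz hs haQ (hac a haQ), e1, haa, one_mul]
      · rw [h.cm_mul_left hQz hs hbQ (hbc a haQ), e2, hab, h.z_sq]
    · refine ⟨b, by simp, hcent _ (mul_mem hs hbQ) ?_ ?_⟩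
      · rw [h.cm_mul_left hQz hs haQ (hac b hbQ), e1, hba, h.z_sq]
      · rw [h.cm_mul_left hQz hs hbQ (hbc b hbQ), e2, hbb, one_mul]
    · have ea : cm (a * b) a = z := by
        rw [h.cm_mul_left hQz haQ haQ (hac b hbQ), haa, hba, one_mul]
      have eb : cm (a * b) b = z := by
        rw [h.cm_mul_left hQz haQ hbQ (hbc b hbQ), hab, hbb, mul_one]
      refine ⟨a * b, by simp, hcent _ (mul_mem hs (mul_mem haQ hbQ)) ?_ ?_⟩
      · rw [h.cm_mul_left hQz hs haQ (ea ▸ mem_zpowers z), e1, ea, h.z_sq]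
      · rw [h.cm_mul_left hQz hs hbQ (eb ▸ mem_zpowers z), e2, eb, h.z_sq]
  -- hence at most eight elements, and `a`, `b`, `z` make it more than four
  have hle : Nat.card Q ≤ 8 := by
    have hsub : (Q : Set G) ⊆ Set.image2 (fun w t => w * t⁻¹) ({1, z} : Set G) ({1, a, b, a * b} : Set G) := by
      intro s hs
      obtain ⟨t, ht, hst⟩ := hdec s hs
      refine ⟨s * t, ?_, t, ht, by group⟩
      rcases h.cases_zpowers_z hst with e | e <;> simp [e]
    have h1 := Set.ncard_le_ncard hsub (Set.toFinite _)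
    rw [← Nat.card_coe_set_eq] at h1
    refine h1.trans ?_
    rw [← Set.image_prod]
    refine (Set.ncard_image_le (Set.toFinite _)).trans ?_
    rw [Set.ncard_prod]
    have h2 : ({1, z} : Set G).ncard ≤ 2 := (Set.ncard_insert_le _ _).trans (by simp)
    have h4 : ({1, a, b, a * b} : Set G).ncard ≤ 4 := by
      refine (Set.ncard_insert_le _ _).trans (Nat.succ_le_succ ?_)
      refine (Set.ncard_insert_le _ _).trans (Nat.succ_le_succ ?_)
      exact (Set.ncard_insert_le _ _).trans (by simp)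
    calc _ ≤ 2 * 4 := Nat.mul_le_mul h2 h4
      _ = 8 := rfl
  refine ⟨?_, fun y hy hyo => ?_⟩
  · obtain ⟨n, hn⟩ := hQ.exists_card_eq
    have hne : ¬ Nat.card Q ≤ 4 := by
      intro h4
      have : IsMulCommutative Q := by
        have hn2 : n ≤ 2 := by
          by_contra hc
          have : 2 ^ 3 ≤ 2 ^ n := Nat.pow_le_pow_right (by norm_num) (by omega)
          omega
        interval_cases n
        · have : Subsingleton Q := (Nat.card_eq_one_iff_unique.1 hn).1
          exact ⟨⟨fun _ _ => Subsingleton.elim _ _⟩⟩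
        · exact absurd (by simpa using hn) hQ2
        · exact IsPGroup.isMulCommutative_of_card_eq_prime_sq (p := 2) hn
      have hc : Commute a b := congrArg Subtype.val (this.is_comm.comm (⟨a, haQ⟩ : Q) ⟨b, hbQ⟩)
      rw [cm_eq_one_iff.2 hc] at hab
      exact h.z_ne hab.symm
    rw [hn] at hle hne ⊢
    have h1 : n ≤ 3 := (Nat.pow_le_pow_iff_right (by norm_num : 1 < 2)).1 (by simpa using hle)
    have h2 : ¬ n ≤ 2 := fun hc => hne (by simpa using Nat.pow_le_pow_right (by norm_num : 0 < 2) hc)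
    rw [show n = 3 by omega]
    norm_num
  · -- an involution is central modulo `⟨z⟩` here
    refine (h.cases_zpowers_z (hno y hy ?_ (by rw [← pow_two, ← hyo, pow_orderOf_eq_one]))).resolve_left
      fun e => by simp [e] at hyo
    intro s hs
    obtain ⟨t, ht, hyt⟩ := hdec y hy
    have htQ : t ∈ Q ∧ cm s t ∈ zpowers z := by
      rcases ht with rfl | rfl | rfl | rfl
      · exact ⟨one_mem _, by simp [cm]⟩
      · exact ⟨haQ, hac s hs⟩
      · exact ⟨hbQ, hbc s hs⟩
      · exact ⟨mul_mem haQ hbQ, h.cm_mul_right hQz hs haQ (hbc s hs) ▸ mul_mem (hac s hs) (hbc s hs)⟩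
    rw [show y = (y * t) * t⁻¹ by group]
    have hti : cm s t⁻¹ ∈ zpowers z := by
      have e : cm s t⁻¹ = t⁻¹ * (cm s t)⁻¹ * t⁻¹⁻¹ := by simp only [cm]; group
      rw [e, h.conj_zpowers (inv_mem (hQz htQ.1)) (inv_mem htQ.2)]
      exact inv_mem htQ.2
    rw [h.cm_mul_right hQz hs (mul_mem hy htQ.1) hti,
      cm_eq_one_iff.2 (h.comm_of_mem (hQz hs) hyt), one_mul]
    exact hti

end Ctx

namespace Ctx

variable [Finite G] {z x : G} (h : Ctx G z x) {Q : Subgroup G} (hQ : IsPGroup 2 Q)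
  (hQz : Q ≤ Cen z) (hxQ : x ∈ normalizer (Q : Set G))
include h hQ hQz hxQ

/-- An element `w` whose square lies in `Q` fixes a good involution modulo `⟨z⟩`. -/
theorem exists_good_fixed (hne : ∃ u, Good z Q u) {w : G} (hw : w ∈ Cen z)
    (hwQ : w ∈ normalizer (Q : Set G)) (hw2 : w * w ∈ Q) :
    ∃ u, Good z Q u ∧ cm w u ∈ zpowers z := by
  obtain ⟨u, gu⟩ := hne
  -- `F v = [v, w v w⁻¹]` is additive on good involutions
  let F : G → G := fun v => cm v (w * v * w⁻¹)
  have key : ∀ v, Good z Q v → F v = 1 → ∃ u, Good z Q u ∧ cm w u ∈ zpowers z := by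
    intro v gv hF
    set v' := w * v * w⁻¹ with hv'
    have gv' : Good z Q v' := h.good_conj gv hw hwQ
    by_cases hm : v' * v ∈ zpowers z
    · refine ⟨v, gv, ?_⟩
      rwa [cm, gv.inv_self]
    · have hc : Commute v v' := cm_eq_one_iff.1 hF
      set t := v' * v with ht
      have gt : Good z Q t := by
        refine ⟨mul_mem gv'.mem gv.mem, orderOf_eq_prime ?_ fun e => hm (e ▸ one_mem _),
          fun e => hm (e ▸ mem_zpowers z), fun s hs => ?_⟩
        · rw [pow_two, show t * t = v' * (v * v') * v by rw [ht]; group, hc.eq,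
            show v' * (v' * v) * v = v' * v' * (v * v) by group, gv'.sq, gv.sq, one_mul]
        · rw [h.cm_mul_right hQz hs gv'.mem (gv.cent s hs)]
          exact mul_mem (gv'.cent s hs) (gv.cent s hs)
      refine ⟨t, gt, ?_⟩
      have hq := gv.cent (w * w) hw2
      have e : cm w t = cm (w * w) v * v * v' * (v' * v)⁻¹ := by
        rw [ht, hv']; simp only [cm]; group
      rw [e, mul_inv_rev, gv.inv_self, gv'.inv_self,
        show cm (w * w) v * v * v' * (v * v') = cm (w * w) v * ((v * v') * (v * v')) by group,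
        show v * v' * (v * v') = v * (v' * v) * v' by group, ← hc.eq,
        show v * (v * v') * v' = v * v * (v' * v') by group, gv.sq, gv'.sq, one_mul, mul_one]
      exact hq
  have gx : Good z Q (x * u * x⁻¹) := h.good_conj_x hxQ gu
  set u2 := x * u * x⁻¹ with hu2
  by_cases h1 : F u = 1
  · exact key u gu h1
  by_cases h2 : F u2 = 1
  · exact key u2 gx h2
  have hc : Commute u u2 := h.good_commute hQ hQz hxQ gu
  have g3 : Good z Q (u * u2) := by
    refine ⟨mul_mem gu.mem gx.mem, orderOf_eq_prime ?_ ?_, ?_, fun s hs => ?_⟩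
    · rw [hc.mul_pow, pow_two, pow_two, gu.sq, gx.sq, one_mul]
    · intro e
      refine h.good_x_ne hQ hQz gu ?_
      rw [← hu2, ← hc.eq, e]
      exact one_mem _
    · intro e
      refine h.good_x_ne hQ hQz gu ?_
      rw [← hu2, ← hc.eq, e]
      exact mem_zpowers z
    · rw [h.cm_mul_right hQz hs gu.mem (gx.cent s hs)]
      exact mul_mem (gu.cent s hs) (gx.cent s hs)
  refine key _ g3 ?_
  have gwu : Good z Q (w * u * w⁻¹) := h.good_conj gu hw hwQ
  have gwu2 : Good z Q (w * u2 * w⁻¹) := h.good_conj gx hw hwQ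
  -- the two mixed terms are equal
  have hmix : cm u (w * u2 * w⁻¹) = cm u2 (w * u * w⁻¹) := by
    have hq := gx.cent (w * w) hw2
    have e1 : w * cm u (w * u2 * w⁻¹) * w⁻¹ = cm (w * u * w⁻¹) (cm (w * w) u2 * u2) := by
      simp only [cm]; group
    rw [h.conj_zpowers hw (gwu2.cent u gu.mem)] at e1
    rw [e1, h.cm_mul_right hQz gwu.mem (mul_mem (mul_mem (mul_mem hw2 gx.mem) (inv_mem hw2)) (inv_mem gx.mem))
      (gx.cent _ gwu.mem), cm_eq_one_iff.2 (h.comm_of_mem (hQz gwu.mem) hq), one_mul,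
      h.cm_symm (gwu.cent u2 gx.mem)]
  show cm (u * u2) (w * (u * u2) * w⁻¹) = 1
  have hcy : ∀ {p : G}, p ∈ Q → ∀ {q : G}, Good z Q q → cm p q ∈ zpowers z := fun hp _ gq => gq.cent _ hp
  have hsum : cm u2 (w * u * w⁻¹ * (w * u2 * w⁻¹)) ∈ zpowers z := by
    rw [h.cm_mul_right hQz gx.mem gwu.mem (hcy gx.mem gwu2)]
    exact mul_mem (hcy gx.mem gwu) (hcy gx.mem gwu2)
  rw [show w * (u * u2) * w⁻¹ = w * u * w⁻¹ * (w * u2 * w⁻¹) by group,
    h.cm_mul_left hQz gu.mem (mul_mem gwu.mem gwu2.mem) hsum,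
    h.cm_mul_right hQz gu.mem gwu.mem (hcy gu.mem gwu2),
    h.cm_mul_right hQz gx.mem gwu.mem (hcy gx.mem gwu2)]
  have f1 : cm u (w * u * w⁻¹) = z := (h.cases_zpowers_z (hcy gu.mem gwu)).resolve_left h1
  have f2 : cm u2 (w * u2 * w⁻¹) = z := (h.cases_zpowers_z (hcy gx.mem gwu2)).resolve_left h2
  rw [f1, f2, hmix]
  rcases h.cases_zpowers_z (hcy gx.mem gwu) with e | e <;> rw [e] <;> simp [h.z_sq]

/-- An element of `Q` commutes with a good involution. -/
theorem exists_good_commute {u : G} (g : Good z Q u) {v : G} (hv : v ∈ Q) :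
    ∃ e, Good z Q e ∧ Commute v e := by
  set u2 := x * u * x⁻¹ with hu2
  have g2 : Good z Q u2 := h.good_conj_x hxQ g
  have hc : Commute u u2 := h.good_commute hQ hQz hxQ g
  rcases h.cases_zpowers_z (g.cent v hv) with e | e
  · exact ⟨u, g, cm_eq_one_iff.1 e⟩
  rcases h.cases_zpowers_z (g2.cent v hv) with e2 | e2
  · exact ⟨u2, g2, cm_eq_one_iff.1 e2⟩
  have hne := h.good_x_ne hQ hQz g
  refine ⟨u * u2, ⟨mul_mem g.mem g2.mem, orderOf_eq_prime ?_ fun e' => hne ?_, fun e' => hne ?_,
    fun s hs => ?_⟩, cm_eq_one_iff.1 ?_⟩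
  · rw [hc.mul_pow, pow_two, pow_two, g.sq, g2.sq, one_mul]
  · rw [← hu2, ← hc.eq, e']; exact one_mem _
  · rw [← hu2, ← hc.eq, e']; exact mem_zpowers z
  · rw [h.cm_mul_right hQz hs g.mem (g2.cent s hs)]
    exact mul_mem (g.cent s hs) (g2.cent s hs)
  · rw [h.cm_mul_right hQz hv g.mem (g2.cent v hv), e, e2, h.z_sq]

end Ctx

end Cfsg.Agent.Lib.SelfCentSix9
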