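import Cfsg.Agent.Lib.Spectrum.SelfThree.Main
import Cfsg.Agent.Lib.PGroups.UniqueInvolution
import Cfsg.Agent.S0201
import Cfsg.Agent.S0219

/-!
# A self-centralising element of order six and one class of involutions (S3243): the setting

`z` is an involution, `x` of order three commutes with it and `C(z) ∩ C(x) = ⟨z x⟩`.  The image of `x` in
`C(z)/⟨z⟩` is self-centralising of order three, and every element of order three of the group
centralises a 2-group of order at most two.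
-/

set_option autoImplicit false

namespace Cfsg.Agent.Lib.SelfCentSix9

open Subgroup
open Cfsg.Agent.Lib.Spectrum.SelfThree

universe u

variable {G : Type u} [Group G]

/-- The centraliser of an element. -/
abbrev Cen (z : G) : Subgroup G := centralizer ({z} : Set G)

theorem mem_cen {z y : G} : y ∈ Cen z ↔ Commute y z := mem_centralizer_singleton_iff

/-- The standing hypotheses. -/
structure Ctx (G : Type u) [Group G] (z x : G) : Prop where
  simple : IsSimpleGroup G
  noncomm : ¬ IsMulCommutative G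
  hz : orderOf z = 2
  hx : orderOf x = 3
  comm : Commute z x
  cent : ∀ y, Commute y z → Commute y x → y ∈ zpowers (z * x)
  one : ∀ u v : G, orderOf u = 2 → orderOf v = 2 → IsConj u v

/-- The context of the statement: `z = t³`, `x = t⁴`. -/
theorem ctx_of [IsSimpleGroup G] (hG : ¬ IsMulCommutative G)
    (h1 : ∀ x y : G, orderOf x = 2 → orderOf y = 2 → IsConj x y)
    {t : G} (ht : orderOf t = 6) (hC : centralizer ({t} : Set G) = zpowers t) :
    Ctx G (t ^ 3) (t ^ 4) := by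
  have h6 : t ^ 6 = 1 := ht ▸ pow_orderOf_eq_one t
  have e : t ^ 3 * t ^ 4 = t := by
    calc t ^ 3 * t ^ 4 = t ^ 6 * t := by rw [← pow_add, ← pow_succ]
      _ = t := by rw [h6, one_mul]
  refine ⟨inferInstance, hG, ?_, ?_, Commute.pow_pow_self t 3 4, fun y hy hy' => ?_, h1⟩
  · rw [orderOf_pow' t (by norm_num), ht]; norm_num
  · rw [orderOf_pow' t (by norm_num), ht]; norm_num
  · rw [e, ← hC]
    refine mem_centralizer_singleton_iff.2 ?_
    have h := hy.mul_right hy'
    rwa [e] at h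

section Conj

variable {z x : G}

theorem Ctx.inv (h : Ctx G z x) : Ctx G z x⁻¹ := by
  refine ⟨h.simple, h.noncomm, h.hz, by rw [orderOf_inv, h.hx], h.comm.inv_right, fun y hy hy' => ?_,
    h.one⟩
  have h1 := h.cent y hy (Commute.inv_right_iff.1 hy')
  have e : (z * x⁻¹)⁻¹ = z * x := by
    rw [mul_inv_rev, inv_inv, inv_eq_of_mul_eq_one_right
      (show z * z = 1 by rw [← pow_two, ← h.hz, pow_orderOf_eq_one]), h.comm.eq]
  rwa [← zpowers_inv (g := z * x⁻¹), e]

theorem Ctx.conj (h : Ctx G z x) (g : G) : Ctx G (g * z * g⁻¹) (g * x * g⁻¹) := by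
  refine ⟨h.simple, h.noncomm, ?_, ?_, ?_, fun y hy hy' => ?_, h.one⟩
  · rw [← MulAut.conj_apply, MulEquiv.orderOf_eq, h.hz]
  · rw [← MulAut.conj_apply, MulEquiv.orderOf_eq, h.hx]
  · simpa only [MulAut.conj_apply] using h.comm.map (MulAut.conj g)
  · have e1 := hy.map (MulAut.conj g⁻¹)
    have e2 := hy'.map (MulAut.conj g⁻¹)
    simp only [MulAut.conj_apply] at e1 e2
    rw [show g⁻¹ * (g * z * g⁻¹) * g⁻¹⁻¹ = z by group] at e1
    rw [show g⁻¹ * (g * x * g⁻¹) * g⁻¹⁻¹ = x by group] at e2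
    obtain ⟨k, hk⟩ := mem_zpowers_iff.1 (h.cent _ e1 e2)
    refine mem_zpowers_iff.2 ⟨k, ?_⟩
    rw [show g * z * g⁻¹ * (g * x * g⁻¹) = MulAut.conj g (z * x) by
      rw [MulAut.conj_apply]; group, ← map_zpow, hk, MulAut.conj_apply]
    group

end Conj

namespace Ctx

variable {z x : G} (h : Ctx G z x)
include h

theorem z_sq : z * z = 1 := by rw [← pow_two, ← h.hz, pow_orderOf_eq_one]

theorem z_ne : z ≠ 1 := fun e => by simpa [e] using h.hz

theorem z_inv : z⁻¹ = z := inv_eq_of_mul_eq_one_right h.z_sq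

theorem x_cube : x ^ 3 = 1 := h.hx ▸ pow_orderOf_eq_one x

theorem x_ne : x ≠ 1 := fun e => by simpa [e] using h.hx

theorem x_mem : x ∈ Cen z := mem_cen.2 h.comm.symm

omit h in
theorem z_mem : z ∈ Cen z := mem_cen.2 (Commute.refl z)

theorem cases_zpowers_z {y : G} (hy : y ∈ zpowers z) : y = 1 ∨ y = z := by
  obtain ⟨k, rfl⟩ := mem_zpowers_iff.1 hy
  rw [← zpow_mod_orderOf, h.hz]
  rcases Int.emod_two_eq_zero_or_one k with e | e <;> simp [e]

theorem cases_zpowers_x {y : G} (hy : y ∈ zpowers x) : y = 1 ∨ y = x ∨ y = x⁻¹ := by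
  obtain ⟨k, rfl⟩ := mem_zpowers_iff.1 hy
  rw [← zpow_mod_orderOf, h.hx]
  have h1 : 0 ≤ k % ((3 : ℕ) : ℤ) := Int.emod_nonneg _ (by norm_num)
  have h2 : k % ((3 : ℕ) : ℤ) < 3 := Int.emod_lt_of_pos _ (by norm_num)
  generalize k % ((3 : ℕ) : ℤ) = j at h1 h2
  interval_cases j
  · simp
  · simp
  · refine Or.inr (Or.inr ?_)
    rw [zpow_ofNat, eq_inv_iff_mul_eq_one, ← pow_succ]
    exact h.x_cube

/-- A 2-element centralising `z` and `x` is a power of `z`. -/
theorem cent_two {y : G} (hyz : Commute y z) (hyx : Commute y x) {n : ℕ} (hn : y ^ 2 ^ n = 1) :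
    y = 1 ∨ y = z := by
  obtain ⟨k, hk⟩ := mem_zpowers_iff.1 (h.cent y hyz hyx)
  have hy : y = z ^ k * x ^ k := by rw [← hk, h.comm.mul_zpow]
  refine h.cases_zpowers_z (mem_zpowers_iff.2 ⟨k, ?_⟩)
  have e : x ^ k = z ^ (-k) * y := by rw [hy, ← mul_assoc, ← zpow_add, neg_add_cancel, zpow_zero, one_mul]
  have hx2 : (x ^ k) ^ 2 ^ (n + 1) = 1 := by
    rw [e, Commute.mul_pow (hyz.symm.zpow_left (-k)), pow_succ' 2 n, pow_mul, pow_mul]
    rw [pow_two (z ^ (-k)), ← (Commute.refl z).mul_zpow, h.z_sq, one_zpow, one_pow, one_mul,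
      ← pow_mul, mul_comm, pow_mul, hn, one_pow]
  have h3 : (x ^ k) ^ 3 = 1 := by
    rw [← zpow_natCast, zpow_comm, zpow_natCast, h.x_cube, one_zpow]
  have : x ^ k = 1 := by
    have d1 := orderOf_dvd_of_pow_eq_one hx2
    have d2 := orderOf_dvd_of_pow_eq_one h3
    have hc : Nat.Coprime (2 ^ (n + 1)) 3 := Nat.Coprime.pow_left _ (by norm_num)
    exact orderOf_eq_one_iff.1 (Nat.eq_one_of_dvd_coprimes hc d1 d2)
  rw [hy, this, mul_one]

/-- An element of order three centralising `z` and `x` is a power of `x`. -/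
theorem cent_three {y : G} (hyz : Commute y z) (hyx : Commute y x) (hn : y ^ 3 = 1) :
    y ∈ zpowers x := by
  obtain ⟨k, hk⟩ := mem_zpowers_iff.1 (h.cent y hyz hyx)
  have hy : y = z ^ k * x ^ k := by rw [← hk, h.comm.mul_zpow]
  have h3 : (x ^ k) ^ 3 = 1 := by
    rw [← zpow_natCast, zpow_comm, zpow_natCast, h.x_cube, one_zpow]
  have e : (z ^ k) ^ 3 = 1 := by
    have := hn
    rwa [hy, ((h.comm.zpow_zpow k k)).mul_pow, h3, mul_one] at this
  have : z ^ k = 1 := by
    rcases h.cases_zpowers_z (zpow_mem_zpowers z k) with e1 | e1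
    · exact e1
    · rw [e1, show z ^ 3 = z by rw [pow_succ, pow_two, h.z_sq, one_mul]] at e
      exact absurd e h.z_ne
  rw [hy, this, one_mul]
  exact zpow_mem_zpowers x k

end Ctx

namespace Ctx

variable [Finite G] {z x : G} (h : Ctx G z x)
include h

/-- A 2-subgroup of `C(x)` has order at most two. -/
theorem card_le_two_x {P : Subgroup G} (hP : IsPGroup 2 P) (hPx : P ≤ Cen x) : Nat.card P ≤ 2 := by
  have : Fact (Nat.Prime 2) := ⟨Nat.prime_two⟩
  set C := Cen x with hCdef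
  have hzC : z ∈ C := mem_cen.2 h.comm
  have hZ : IsPGroup 2 (zpowers (⟨z, hzC⟩ : C)) :=
    IsPGroup.of_card (n := 1) (by rw [Nat.card_zpowers, pow_one, ← Subgroup.orderOf_coe]; exact h.hz)
  obtain ⟨P0, hP0⟩ := hZ.exists_le_sylow
  set zP : (P0 : Subgroup C) := ⟨⟨z, hzC⟩, hP0 (mem_zpowers _)⟩ with hzP
  have key : ∀ y : (P0 : Subgroup C), Commute y zP → y ∈ zpowers zP := by
    intro y hy
    obtain ⟨n, hn⟩ := P0.isPGroup' y
    rcases h.cent_two (y := ((y : C) : G)) (congrArg (fun w : (P0 : Subgroup C) => ((w : C) : G)) hy.eq)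
      (mem_cen.1 (y : C).2) (congrArg (fun w : (P0 : Subgroup C) => ((w : C) : G)) hn) with e | e
    · rw [show y = 1 from Subtype.ext (Subtype.ext e)]; exact one_mem _
    · rw [show y = zP from Subtype.ext (Subtype.ext e)]; exact mem_zpowers _
  have htop : zpowers zP = ⊤ := by
    have : Group.IsNilpotent (P0 : Subgroup C) := P0.isPGroup'.isNilpotent
    by_contra hne
    refine (Group.normalizerCondition_of_isNilpotent _ (lt_top_iff_ne_top.2 hne)).not_ge
      fun y hy => key y ?_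
    have hm := (mem_normalizer_iff.1 hy zP).1 (mem_zpowers _)
    obtain ⟨k, hk⟩ := mem_zpowers_iff.1 hm
    have hcoe : ((y * zP * y⁻¹ : (P0 : Subgroup C)) : C) ∈ (P0 : Subgroup C) := (y * zP * y⁻¹).2
    rcases h.cases_zpowers_z (y := (((y * zP * y⁻¹ : (P0 : Subgroup C)) : C) : G))
      (mem_zpowers_iff.2 ⟨k, by rw [← hk]; simp [hzP]⟩) with e | e
    · exfalso
      have e' : zP = 1 := by
        have : y * zP * y⁻¹ = 1 := Subtype.ext (Subtype.ext e)
        calc zP = y⁻¹ * (y * zP * y⁻¹) * y := by group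
          _ = 1 := by rw [this]; group
      exact h.z_ne (congrArg (fun w : (P0 : Subgroup C) => ((w : C) : G)) e')
    · have : y * zP * y⁻¹ = zP := Subtype.ext (Subtype.ext e)
      exact mul_inv_eq_iff_eq_mul.1 this
  have hc : Nat.card (P0 : Subgroup C) = 2 := by
    rw [← Subgroup.card_top, ← htop, Nat.card_zpowers, ← Subgroup.orderOf_coe, ← Subgroup.orderOf_coe]
    exact h.hz
  have hP' : IsPGroup 2 (P.subgroupOf C) :=
    hP.of_equiv (subgroupOfEquivOfLe hPx).symm
  obtain ⟨R, hR⟩ := hP'.exists_le_sylow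
  calc Nat.card P = Nat.card (P.subgroupOf C) := Nat.card_congr (subgroupOfEquivOfLe hPx).symm.toEquiv
    _ ≤ Nat.card (R : Subgroup C) := Subgroup.card_le_of_le hR
    _ = 2 := by rw [R.card_eq_multiplicity, ← P0.card_eq_multiplicity, hc]

/-- The centre `⟨z⟩` inside `C(z)`. -/
def _root_.Cfsg.Agent.Lib.SelfCentSix9.zSub (z : G) : Subgroup (Cen z) :=
  zpowers (⟨z, mem_cen.2 (Commute.refl z)⟩ : Cen z)

omit h [Finite G] in
instance _root_.Cfsg.Agent.Lib.SelfCentSix9.zSub_normal (z : G) : (zSub z).Normal := by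
  refine ⟨fun n hn g => ?_⟩
  obtain ⟨k, rfl⟩ := mem_zpowers_iff.1 hn
  have : Commute g (⟨z, mem_cen.2 (Commute.refl z)⟩ : Cen z) := Subtype.ext (mem_cen.1 g.2).eq
  rw [(this.zpow_right k).eq, mul_inv_cancel_right]
  exact zpow_mem_zpowers _ k

omit [Finite G] in
theorem card_zSub : Nat.card (zSub z) = 2 := by
  rw [zSub, Nat.card_zpowers, ← Subgroup.orderOf_coe]
  exact h.hz

omit [Finite G] in
theorem mem_zSub {y : Cen z} : y ∈ zSub z ↔ (y : G) = 1 ∨ (y : G) = z := by
  constructor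
  · intro hy
    obtain ⟨k, rfl⟩ := mem_zpowers_iff.1 hy
    exact h.cases_zpowers_z (mem_zpowers_iff.2 ⟨k, by simp⟩)
  · rintro (e | e)
    · rw [show y = 1 from Subtype.ext e]; exact one_mem _
    · rw [show y = ⟨z, mem_cen.2 (Commute.refl z)⟩ from Subtype.ext e]; exact mem_zpowers _

omit [Finite G] in
/-- The image of `x` in `C(z)/⟨z⟩` is self-centralising of order three. -/
theorem sc : SC ((⟨x, h.x_mem⟩ : Cen z) : Cen z ⧸ zSub z) := by
  have : Fact (Nat.Prime 3) := ⟨Nat.prime_three⟩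
  refine ⟨orderOf_eq_prime ?_ ?_, fun y hy => ?_⟩
  · rw [← QuotientGroup.mk_pow, show (⟨x, h.x_mem⟩ : Cen z) ^ 3 = 1 from Subtype.ext h.x_cube,
      QuotientGroup.mk_one]
  · intro e
    rcases h.mem_zSub.1 ((QuotientGroup.eq_one_iff _).1 e) with e | e
    · exact h.x_ne e
    · have := congrArg orderOf e
      rw [h.hx, h.hz] at this
      omega
  obtain ⟨g, rfl⟩ := QuotientGroup.mk_surjective y
  rw [← QuotientGroup.mk_mul, ← QuotientGroup.mk_mul, QuotientGroup.eq, h.mem_zSub] at hy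
  have hgx : Commute (g : G) x := by
    rcases hy with e | e
    · exact inv_mul_eq_one.1 (by simpa using e)
    · exfalso
      have e' : ((g : G) * x)⁻¹ * (x * g) = z := by simpa using e
      have e2 : (g : G)⁻¹ * x * g = x * z := Eq.trans (by group) (congrArg (x * ·) e')
      have h3 := congrArg orderOf e2
      rw [show (g : G)⁻¹ * x * g = MulAut.conj (g : G)⁻¹ x by simp, MulEquiv.orderOf_eq,
        h.comm.symm.orderOf_mul_eq_mul_orderOf_of_coprime (by rw [h.hx, h.hz]; norm_num), h.hx,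
        h.hz] at h3
      omega
  obtain ⟨k, hk⟩ := mem_zpowers_iff.1 (h.cent g (mem_cen.1 g.2) hgx)
  refine mem_zpowers_iff.2 ⟨k, ?_⟩
  rw [← QuotientGroup.mk_zpow, QuotientGroup.eq, h.mem_zSub]
  have e : ((((⟨x, h.x_mem⟩ : Cen z) ^ k)⁻¹ * g : Cen z) : G) = z ^ k := by
    simp only [Subgroup.coe_mul, Subgroup.coe_inv, Subgroup.coe_zpow, ← hk, h.comm.mul_zpow]
    rw [(h.comm.zpow_zpow k k).eq, inv_mul_cancel_left]
  rw [e]
  exact h.cases_zpowers_z (zpow_mem_zpowers z k)

/-- Elements of order three centralising `z` are conjugate in `C(z)` to `x` or to `x⁻¹`. -/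
theorem conj_three {c : G} (hc : orderOf c = 3) (hcz : Commute c z) :
    ∃ g ∈ Cen z, g * c * g⁻¹ = x ∨ g * c * g⁻¹ = x⁻¹ := by
  have hc3 : c ^ 3 = 1 := hc ▸ pow_orderOf_eq_one c
  set cb : Cen z ⧸ zSub z := ((⟨c, mem_cen.2 hcz⟩ : Cen z) : Cen z ⧸ zSub z) with hcb
  have h3 : cb ^ 3 = 1 := by
    rw [hcb, ← QuotientGroup.mk_pow, show (⟨c, mem_cen.2 hcz⟩ : Cen z) ^ 3 = 1 from Subtype.ext hc3,
      QuotientGroup.mk_one]
  have hne : cb ≠ 1 := by
    intro e
    rcases h.mem_zSub.1 ((QuotientGroup.eq_one_iff _).1 e) with e | e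
    · simp [show c = 1 from e] at hc
    · rw [show c = z from e, h.hz] at hc
      omega
  have key : ∀ (g : Cen z) (y : G) (hy : y ∈ Cen z), y ^ 3 = 1 →
      ((g : Cen z ⧸ zSub z) * cb * (g : Cen z ⧸ zSub z)⁻¹ = ((⟨y, hy⟩ : Cen z) : Cen z ⧸ zSub z)) →
      (g : G) * c * (g : G)⁻¹ = y := by
    intro g y hy hy3 e
    rw [hcb, ← QuotientGroup.mk_mul, ← QuotientGroup.mk_inv, ← QuotientGroup.mk_mul,
      QuotientGroup.eq, h.mem_zSub] at e
    simp only [Subgroup.coe_mul, Subgroup.coe_inv, mul_inv_rev, inv_inv] at e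
    rcases e with e | e
    · calc (g : G) * c * (g : G)⁻¹ = g * c * (g : G)⁻¹ * ((g : G) * (c⁻¹ * (g : G)⁻¹) * y) := by
            rw [e, mul_one]
        _ = y := by group
    · exfalso
      have e2 : y = (g : G) * c * (g : G)⁻¹ * z :=
        Eq.trans (by group) (congrArg ((g : G) * c * (g : G)⁻¹ * ·) e)
      have hcom : Commute ((g : G) * c * (g : G)⁻¹) z :=
        mem_cen.1 (mul_mem (mul_mem g.2 (mem_cen.2 hcz)) (inv_mem g.2))
      rw [e2, hcom.mul_pow, conj_pow, hc3, mul_one, mul_inv_cancel, one_mul,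
        show z ^ 3 = z by rw [pow_succ, pow_two, h.z_sq, one_mul]] at hy3
      exact h.z_ne hy3
  rcases h.sc.conj_of_pow_three h3 hne with hcj | hcj
  · obtain ⟨g, hg⟩ := isConj_iff.1 hcj.symm
    obtain ⟨g, rfl⟩ := QuotientGroup.mk_surjective g
    exact ⟨g, g.2, Or.inl (key g x h.x_mem h.x_cube hg)⟩
  · obtain ⟨g, hg⟩ := isConj_iff.1 hcj.symm
    obtain ⟨g, rfl⟩ := QuotientGroup.mk_surjective g
    refine ⟨g, g.2, Or.inr (key g x⁻¹ (inv_mem h.x_mem) (by rw [inv_pow, h.x_cube, inv_one]) ?_)⟩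
    rw [hg, ← QuotientGroup.mk_inv]
    rfl

omit [Finite G] in
/-- Every involution is a conjugate of `z`. -/
theorem exists_conj {v : G} (hv : orderOf v = 2) : ∃ g : G, g * v * g⁻¹ = z :=
  isConj_iff.1 (h.one v z hv h.hz)

/-- Every element of order three centralises a 2-group of order at most two. -/
theorem two_card_le {c : G} (hc : orderOf c = 3) {P : Subgroup G} (hP : IsPGroup 2 P)
    (hPc : P ≤ Cen c) : Nat.card P ≤ 2 := by
  have : Fact (Nat.Prime 2) := ⟨Nat.prime_two⟩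
  rcases hP.card_eq_or_dvd with e | hd
  · omega
  obtain ⟨⟨v, hvP⟩, hv⟩ := exists_prime_orderOf_dvd_card' 2 hd
  rw [← Subgroup.orderOf_coe] at hv
  obtain ⟨g, hg⟩ := h.exists_conj hv
  have hcom : Commute (g * c * g⁻¹) z := by
    have := (mem_cen.1 (hPc hvP)).symm.map (MulAut.conj g)
    simp only [MulAut.conj_apply] at this
    rwa [hg] at this
  obtain ⟨k, -, hk⟩ := h.conj_three (c := g * c * g⁻¹)
    (by rw [← MulAut.conj_apply, MulEquiv.orderOf_eq, hc]) hcom
  set f := MulAut.conj (k * g) with hf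
  have hP' : IsPGroup 2 (P.map f.toMonoidHom) := hP.map _
  have hle : P.map f.toMonoidHom ≤ Cen x := by
    rintro _ ⟨p, hp, rfl⟩
    refine mem_cen.2 ?_
    have h1 := (mem_cen.1 (hPc hp)).map f
    have e : f c = k * (g * c * g⁻¹) * k⁻¹ := by rw [hf, MulAut.conj_apply]; group
    rw [e] at h1
    rcases hk with e' | e' <;> rw [e'] at h1
    · exact h1
    · exact Commute.inv_right_iff.1 h1
  have := h.card_le_two_x hP' hle
  rwa [card_map_of_injective f.injective] at this

/-- An element of order three has a two-element centraliser part equal to `⟨v⟩`. -/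
theorem eq_of_mem_cent_three {c : G} (hc : orderOf c = 3) {P : Subgroup G} (hP : IsPGroup 2 P)
    (hPc : P ≤ Cen c) {u v : G} (hu : u ∈ P) (hv : v ∈ P) (hu1 : u ≠ 1) (hv1 : v ≠ 1) : u = v := by
  have h2 := h.two_card_le hc hP hPc
  by_contra hne
  have hs : ({1, u, v} : Set G) ⊆ P := by
    rintro w (rfl | rfl | rfl)
    exacts [one_mem _, hu, hv]
  have h3 : ({1, u, v} : Set G).ncard = 3 := Set.ncard_eq_three.2 ⟨1, u, v, Ne.symm hu1, Ne.symm hv1, hne, rfl⟩
  have := Set.ncard_le_ncard hs (Set.toFinite _)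
  rw [h3, ← Nat.card_coe_set_eq] at this
  have e : Nat.card ((P : Set G)) = Nat.card P := rfl
  omega

omit [Finite G] in
/-- `x` fixes only `⟨z⟩` in a 2-group of `C(z)`. -/
theorem eq_of_commute_x {P : Subgroup G} (hP : IsPGroup 2 P) (hPz : P ≤ Cen z) {y : G} (hy : y ∈ P)
    (hyx : Commute y x) : y = 1 ∨ y = z := by
  obtain ⟨n, hn⟩ := hP ⟨y, hy⟩
  exact h.cent_two (mem_cen.1 (hPz hy)) hyx (congrArg Subtype.val hn)

/-- `9` does not divide `|C(z)|`. -/
theorem not_nine : ¬ 9 ∣ Nat.card (Cen z) := by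
  intro h9
  apply h.sc.not_nine
  have e := card_eq_card_quotient_mul_card_subgroup (zSub z)
  rw [h.card_zSub] at e
  rw [e] at h9
  exact (Nat.Coprime.dvd_of_dvd_mul_right (by norm_num) h9)

/-! ### Consequences of simplicity -/

omit [Finite G] in
theorem center_bot : Subgroup.center G = ⊥ := by
  rcases h.simple.eq_bot_or_eq_top_of_normal (Subgroup.center G) inferInstance with e | e
  · exact e
  · refine absurd ⟨⟨fun a b => ?_⟩⟩ h.noncomm
    exact ((mem_center_iff.1 (e ▸ mem_top a)) b).symm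

omit [Finite G] in
theorem no_index_two (N : Subgroup G) : N.index ≠ 2 := by
  intro h2
  have := normal_of_index_eq_two h2
  rcases h.simple.eq_bot_or_eq_top_of_normal N this with e | e
  · rw [e, index_bot] at h2
    exact h.noncomm ((isCyclic_of_prime_card (p := 2) h2 (hp := ⟨Nat.prime_two⟩)).isMulCommutative)
  · rw [e, index_top] at h2
    omega

omit [Finite G] in
theorem two_dvd : 2 ∣ Nat.card G := h.hz ▸ orderOf_dvd_natCard z

omit [Finite G] in
theorem eq_bot_of_odd {N : Subgroup G} (hN : N.Normal) (ho : Odd (Nat.card N)) : N = ⊥ := by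
  rcases h.simple.eq_bot_or_eq_top_of_normal N hN with e | e
  · exact e
  · rw [e, card_top] at ho
    exact absurd (even_iff_two_dvd.2 h.two_dvd) (Nat.not_even_iff_odd.2 ho)

/-- A Sylow 2-subgroup has a second involution. -/
theorem exists_second_invol (S : Sylow 2 G) (v : G) :
    ∃ u ∈ (S : Subgroup G), orderOf u = 2 ∧ u ≠ v := by
  have : Fact (Nat.Prime 2) := ⟨Nat.prime_two⟩
  by_contra hne
  push Not at hne
  have hu : ∀ a b : (S : Subgroup G), orderOf a = 2 → orderOf b = 2 → b ∈ zpowers a := by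
    intro a b ha hb
    rw [← Subgroup.orderOf_coe] at ha hb
    rw [show b = a from Subtype.ext ((hne b b.2 hb).trans (hne a a.2 ha).symm)]
    exact mem_zpowers a
  rcases PGroups.isCyclic_or_quaternion S.isPGroup' hu with hc | ⟨-, n, hn, ⟨e⟩⟩
  · obtain ⟨N, hN⟩ := Cfsg.Agent.S0219.result (even_iff_two_dvd.2 h.two_dvd) S hc
    exact h.no_index_two N hN
  · obtain ⟨m, rfl⟩ : ∃ m, n = m + 1 := ⟨n - 1, by omega⟩
    have := Cfsg.Agent.S0201.result S m e fun N hN ho => h.eq_bot_of_odd hN ho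
    rw [h.center_bot, card_bot] at this
    omega

/-- `C(z)` contains a Sylow 2-subgroup. -/
theorem exists_sylow_le : ∃ S : Sylow 2 G, (S : Subgroup G) ≤ Cen z := by
  have : Fact (Nat.Prime 2) := ⟨Nat.prime_two⟩
  obtain ⟨S⟩ : Nonempty (Sylow 2 G) := inferInstance
  have hS : Nontrivial (S : Subgroup G) := by
    rw [← Finite.one_lt_card_iff_nontrivial, S.card_eq_multiplicity]
    exact Nat.one_lt_pow (Nat.prime_two.factorization_pos_of_dvd Nat.card_pos.ne' h.two_dvd).ne' one_lt_two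
  have := S.isPGroup'.center_nontrivial
  have hd : 2 ∣ Nat.card (center (S : Subgroup G)) :=
    (S.isPGroup'.to_subgroup _).card_eq_or_dvd.resolve_left Finite.one_lt_card.ne'
  obtain ⟨⟨v, hv⟩, hv2⟩ := exists_prime_orderOf_dvd_card' 2 hd
  rw [← Subgroup.orderOf_coe, ← Subgroup.orderOf_coe] at hv2
  obtain ⟨g, hg⟩ := h.exists_conj hv2
  refine ⟨g • S, ?_⟩
  rw [Sylow.coe_subgroup_smul]
  rintro _ ⟨y, hy, rfl⟩
  refine mem_cen.2 ?_
  have h1 : Commute y (v : G) := congrArg Subtype.val (mem_center_iff.1 hv ⟨y, hy⟩)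
  have := h1.map (MulAut.conj g)
  simp only [MulAut.conj_apply] at this
  rw [hg] at this
  exact this

/-- A 2-subgroup of `C(z)` of odd index there is a Sylow 2-subgroup of `G`. -/
theorem exists_sylow_eq {P : Subgroup G} (hP : IsPGroup 2 P) (hPH : P ≤ Cen z)
    (hidx : ¬ 2 ∣ P.relIndex (Cen z)) : ∃ S : Sylow 2 G, (S : Subgroup G) = P := by
  have : Fact (Nat.Prime 2) := ⟨Nat.prime_two⟩
  obtain ⟨S₀, hS₀⟩ := h.exists_sylow_le
  obtain ⟨S, hS⟩ := hP.exists_le_sylow
  refine ⟨S, (Subgroup.eq_of_le_of_card_ge hS ?_).symm⟩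
  obtain ⟨k, hk⟩ := hP.exists_card_eq
  have hd : Nat.card (S₀ : Subgroup G) ∣ Nat.card P := by
    have h1 : Nat.card (S₀ : Subgroup G) ∣ Nat.card P * P.relIndex (Cen z) :=
      (card_dvd_of_le hS₀).trans (dvd_of_eq (by
        rw [← relIndex_bot_left, ← relIndex_bot_left, relIndex_mul_relIndex _ _ _ bot_le hPH]))
    obtain ⟨j, hj⟩ := S₀.isPGroup'.exists_card_eq
    have hc : (Nat.card (S₀ : Subgroup G)).Coprime (P.relIndex (Cen z)) := by
      rw [hj]
      exact Nat.Coprime.pow_left _ ((Nat.prime_two.coprime_iff_not_dvd).2 hidx)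
    exact hc.dvd_of_dvd_mul_right h1
  calc Nat.card (S : Subgroup G) = Nat.card (S₀ : Subgroup G) := by
        rw [S.card_eq_multiplicity, S₀.card_eq_multiplicity]
    _ ≤ Nat.card P := Nat.le_of_dvd Nat.card_pos hd

end Ctx

end Cfsg.Agent.Lib.SelfCentSix9
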