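import Cfsg.Agent.Lib.SelfCentSix9.Setup
import Cfsg.Agent.Lib.Transfer.Frobenius

/-!
# The soluble shape of `C(z)`

If `C(z)/⟨z⟩` has a normal subgroup of order prime to three and index three or six, then `C(z)` has normal
subgroups `Q` (a 2-group containing `z`) and `K` (of order prime to six) centralising each other with
`|C(z)| = e |Q| |K|`, `e ∈ {3, 6}`, and `C(z)` is soluble.
-/

set_option autoImplicit false

namespace Cfsg.Agent.Lib.SelfCentSix9

open Subgroup
open Cfsg.Agent.Lib.Spectrum.SelfThree

universe u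

variable {G : Type u} [Group G] [Finite G]

/-- The normal subgroups of `C(z)` in the soluble shape. -/
structure DataA (z : G) (Q K : Subgroup G) (e : ℕ) : Prop where
  e_cases : e = 3 ∨ e = 6
  two : IsPGroup 2 Q
  odd : ¬ 2 ∣ Nat.card K
  three : ¬ 3 ∣ Nat.card K
  Q_le : Q ≤ Cen z
  K_le : K ≤ Cen z
  z_mem : z ∈ Q
  Q_norm : Cen z ≤ normalizer (Q : Set G)
  K_norm : Cen z ≤ normalizer (K : Set G)
  commute : ∀ k ∈ K, ∀ q ∈ Q, Commute k q
  nilp : Group.IsNilpotent K
  card : Nat.card (Cen z) = e * Nat.card Q * Nat.card K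
  solvable : Group.IsSolvable (Cen z)

/-- A group of order dividing six is soluble. -/
theorem isSolvable_of_card_six {Y : Type u} [Group Y] [Finite Y] (hY : Nat.card Y = 3 ∨ Nat.card Y = 6) :
    Group.IsSolvable Y := by
  have : Fact (Nat.Prime 3) := ⟨Nat.prime_three⟩
  obtain ⟨y, hy⟩ := exists_prime_orderOf_dvd_card' (G := Y) 3 (by rcases hY with e | e <;> rw [e]; norm_num)
  rcases hY with e | e
  · have := isCyclic_of_prime_card (p := 3) e
    exact Group.isSolvable_of_comm fun a b => IsCyclic.commGroup.mul_comm a b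
  · have hidx : (zpowers y).index = 2 := by
      have := (zpowers y).card_mul_index
      rw [Nat.card_zpowers, hy, e] at this
      omega
    have hn := normal_of_index_eq_two hidx
    have h1 : Group.IsSolvable (zpowers y) :=
      Group.isSolvable_of_comm fun a b => IsCyclic.commGroup.mul_comm a b
    have h2 : Group.IsSolvable (Y ⧸ zpowers y) := by
      have := isCyclic_of_prime_card (α := Y ⧸ zpowers y) (p := 2) hidx (hp := ⟨Nat.prime_two⟩)
      exact Group.isSolvable_of_comm fun a b => IsCyclic.commGroup.mul_comm a b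
    exact Group.isSolvable_of_ker_le_range (zpowers y).subtype (QuotientGroup.mk' (zpowers y))
      (by rw [QuotientGroup.ker_mk', range_subtype])

variable {z x : G}

/-- The soluble shape gives the data. -/
theorem Ctx.dataA (h : Ctx G z x) {N₀ : Subgroup (Cen z ⧸ zSub z)} (hN₀ : N₀.Normal)
    (h3 : ¬ 3 ∣ Nat.card N₀) (hidx : N₀.index = 3 ∨ N₀.index = 6) :
    ∃ Q K : Subgroup G, DataA z Q K N₀.index := by
  classical
  have : Fact (Nat.Prime 2) := ⟨Nat.prime_two⟩
  set N := N₀.comap (QuotientGroup.mk' (zSub z)) with hN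
  have hNn : N.Normal := hN₀.comap _
  have hxn : (((⟨x, h.x_mem⟩ : Cen z) : Cen z ⧸ zSub z)) ∈ normalizer (N₀ : Set (Cen z ⧸ zSub z)) := by
    rw [normalizer_eq_top]; exact mem_top _
  have hN₀nil : Group.IsNilpotent N₀ := Inv.isNilpotent h.sc ⟨h3, hxn⟩
  -- `N` is a central extension of `N₀`
  let f : N →* N₀ := ((QuotientGroup.mk' (zSub z)).comp N.subtype).codRestrict N₀ fun n => n.2
  have hfker : f.ker ≤ center N := by
    intro n hn
    have h1 : ((n : Cen z) : Cen z ⧸ zSub z) = 1 := congrArg Subtype.val (MonoidHom.mem_ker.1 hn)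
    refine mem_center_iff.2 fun m => Subtype.ext (Subtype.ext ?_)
    show ((m : Cen z) : G) * ((n : Cen z) : G) = ((n : Cen z) : G) * ((m : Cen z) : G)
    rcases h.mem_zSub.1 ((QuotientGroup.eq_one_iff _).1 h1) with e | e <;> rw [e]
    · simp
    · exact (mem_cen.1 (m : Cen z).2).eq
  have hNnil : Group.IsNilpotent N := Subgroup.isNilpotent_of_ker_le_center f hfker
  have hNc : Nat.card N = 2 * Nat.card N₀ := by
    have e1 := N.card_mul_index
    have e2 := N₀.card_mul_index
    have e3 := card_eq_card_quotient_mul_card_subgroup (zSub z)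
    rw [h.card_zSub] at e3
    rw [hN, index_comap_of_surjective _ (QuotientGroup.mk'_surjective _)] at e1
    have hne : N₀.index ≠ 0 := index_ne_zero_of_finite
    refine Nat.eq_of_mul_eq_mul_right (Nat.pos_of_ne_zero hne) ?_
    rw [hN, e1, e3, mul_assoc, e2, mul_comm]
  have hN3 : ¬ 3 ∣ Nat.card N := by
    rw [hNc]
    intro hd
    rcases Nat.prime_three.dvd_mul.1 hd with e | e
    · norm_num at e
    · exact h3 e
  -- the 2-part and its complement
  obtain ⟨P, C, hCn, hPC⟩ := Transfer.Frobenius.hasNormalPComplement_of_isNilpotent (p := 2) (G := N)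
  have hPn : (P : Subgroup N).Normal := inferInstance
  have hPc : (P : Subgroup N).Characteristic := Sylow.characteristic_of_normal P hPn
  have hCidx : C.index = Nat.card (P : Subgroup N) := hPC.symm.index_eq_card
  have hCodd : ¬ 2 ∣ Nat.card C := by
    rw [← hPC.index_eq_card]
    exact P.not_dvd_index
  have hmemC : ∀ y : N, ¬ 2 ∣ orderOf y → y ∈ C := by
    intro y hy
    rw [← QuotientGroup.eq_one_iff, ← orderOf_eq_one_iff]
    obtain ⟨k, hk⟩ := P.isPGroup'.exists_card_eq
    refine Nat.eq_one_of_dvd_coprimes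
      (Nat.Coprime.pow_left k ((Nat.prime_two.coprime_iff_not_dvd).2 hy))
      ((_root_.orderOf_dvd_natCard _).trans (dvd_of_eq (by rw [← hk, ← hCidx]; rfl))) ?_
    exact orderOf_map_dvd (QuotientGroup.mk' C) y
  have hCc : C.Characteristic := by
    refine characteristic_iff_le_comap.2 fun φ y hy => hmemC _ ?_
    rw [show φ.toMonoidHom y = φ y from rfl, MulEquiv.orderOf_eq]
    intro hd
    exact hCodd (hd.trans (by
      have := orderOf_dvd_natCard C hy
      exact this))
  let Qc : Subgroup (Cen z) := (P : Subgroup N).map N.subtype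
  let Kc : Subgroup (Cen z) := C.map N.subtype
  have hQn : Qc.Normal := inferInstance
  have hKn : Kc.Normal := inferInstance
  refine ⟨Qc.map (Cen z).subtype, Kc.map (Cen z).subtype,
    { e_cases := hidx
      two := (P.isPGroup'.map _).map _
      odd := ?_, three := ?_
      Q_le := map_subtype_le _
      K_le := map_subtype_le _
      z_mem := ?_, Q_norm := ?_, K_norm := ?_, commute := ?_, nilp := ?_, card := ?_, solvable := ?_ }⟩
  · rw [card_map_of_injective (Cen z).subtype_injective, card_map_of_injective N.subtype_injective]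
    exact hCodd
  · rw [card_map_of_injective (Cen z).subtype_injective, card_map_of_injective N.subtype_injective]
    exact fun hd => hN3 (hd.trans C.card_subgroup_dvd_card)
  · have hzN : (⟨z, mem_cen.2 (Commute.refl z)⟩ : Cen z) ∈ N := by
      rw [hN, mem_comap, QuotientGroup.mk'_apply,
        (QuotientGroup.eq_one_iff _).2 (show _ ∈ zSub z from mem_zpowers _)]
      exact one_mem _
    refine ⟨_, ⟨⟨_, hzN⟩, ?_, rfl⟩, rfl⟩
    have hzp : IsPGroup 2 (zpowers (⟨_, hzN⟩ : N)) := IsPGroup.of_card (n := 1) (by
      rw [Nat.card_zpowers, pow_one, ← Subgroup.orderOf_coe, ← Subgroup.orderOf_coe]; exact h.hz)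
    obtain ⟨R, hR⟩ := hzp.exists_le_sylow
    have := Sylow.unique_of_normal P hPn
    exact (Subsingleton.elim R P) ▸ hR (mem_zpowers _)
  · intro g hg
    exact le_normalizer_map (Cen z).subtype
      ⟨⟨g, hg⟩, by rw [normalizer_eq_top]; exact mem_top _, rfl⟩
  · intro g hg
    exact le_normalizer_map (Cen z).subtype
      ⟨⟨g, hg⟩, by rw [normalizer_eq_top]; exact mem_top _, rfl⟩
  · rintro _ ⟨_, ⟨k, hk, rfl⟩, rfl⟩ _ ⟨_, ⟨q, hq, rfl⟩, rfl⟩
    obtain ⟨j, hj⟩ := IsPGroup.iff_orderOf.1 P.isPGroup' ⟨q, hq⟩
    rw [← Subgroup.orderOf_coe] at hj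
    have hc : k * q = q * k := Transfer.Frobenius.commute_of_coprime_of_isNilpotent (by
      rw [hj]
      exact Nat.Coprime.pow_right j (Nat.coprime_comm.1 (Nat.prime_two.coprime_iff_not_dvd.2
        fun hd => hCodd (hd.trans (orderOf_dvd_natCard C hk)))))
    exact congrArg (fun w : N => (((w : Cen z) : G))) hc
  · have : Group.IsNilpotent C := inferInstance
    exact Group.nilpotent_of_mulEquiv ((C.equivMapOfInjective _ N.subtype_injective).trans
      (Kc.equivMapOfInjective _ (Cen z).subtype_injective))
  · rw [card_map_of_injective (Cen z).subtype_injective, card_map_of_injective N.subtype_injective,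
      card_map_of_injective (Cen z).subtype_injective, card_map_of_injective N.subtype_injective,
      mul_assoc, mul_comm (Nat.card (P : Subgroup N)), hPC.card_mul_card, ← N.card_mul_index,
      hN, index_comap_of_surjective _ (QuotientGroup.mk'_surjective _), mul_comm]
  · have h1 : Group.IsSolvable N := inferInstance
    have h2 : Group.IsSolvable (Cen z ⧸ N) := by
      refine isSolvable_of_card_six ?_
      rw [← index_eq_card, hN, index_comap_of_surjective _ (QuotientGroup.mk'_surjective _)]
      exact hidx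
    exact Group.isSolvable_of_ker_le_range N.subtype (QuotientGroup.mk' N)
      (by rw [QuotientGroup.ker_mk', range_subtype])

end Cfsg.Agent.Lib.SelfCentSix9
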